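import Cfsg.Agent.KC.R11.C0x32
import Cfsg.Agent.KC.R11.C1x32
import Cfsg.Agent.KC.R11.C2x33
import Cfsg.Agent.KC.R11.C3x33
import Cfsg.Agent.KC.R11.C4x34
import Cfsg.Agent.KC.R11.C5x34
import Cfsg.Agent.KC.R11.C6x34
import Cfsg.Agent.KC.R11.C7x34
import Cfsg.Agent.KC.R11.C8x34
import Cfsg.Agent.KC.R11.C9x34
import Cfsg.Agent.KC.R11.C10x34
import Cfsg.Agent.KC.R11.C11x34
import Cfsg.Agent.KC.R11.C12x34
import Cfsg.Agent.KC.R11.C13x34
import Cfsg.Agent.KC.R11.C14x34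
import Cfsg.Agent.KC.R11.C15x34
import Cfsg.Agent.KC.R11.C16x34
import Cfsg.Agent.KC.R11.C17x34

namespace Cfsg.Agent.KC.R11

theorem s0x0 : ∀ l, l < 1 → run3 10 [] 61 0 3 0 1 l = true
  | 0, _ => c0x0x0
  | _ + 1, h => absurd h (by omega)

theorem s0x1 : ∀ l, l < 1 → run3 10 [] 61 0 3 1 1 l = true
  | 0, _ => c0x1x0
  | _ + 1, h => absurd h (by omega)

theorem s0x2 : ∀ l, l < 1 → run3 10 [] 61 0 3 2 1 l = true
  | 0, _ => c0x2x0
  | _ + 1, h => absurd h (by omega)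

theorem r0 : ∀ j, j < 3 → ∃ n3, 0 < n3 ∧ ∀ l, l < n3 → run3 10 [] 61 0 3 j n3 l = true
  | 0, _ => ⟨1, by decide, s0x0⟩
  | 1, _ => ⟨1, by decide, s0x1⟩
  | 2, _ => ⟨1, by decide, s0x2⟩
  | _ + 3, h => absurd h (by omega)

theorem s1x0 : ∀ l, l < 1 → run3 10 [] 61 1 1 0 1 l = true
  | 0, _ => c1x0x0
  | _ + 1, h => absurd h (by omega)

theorem r1 : ∀ j, j < 1 → ∃ n3, 0 < n3 ∧ ∀ l, l < n3 → run3 10 [] 61 1 1 j n3 l = true
  | 0, _ => ⟨1, by decide, s1x0⟩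
  | _ + 1, h => absurd h (by omega)

theorem s2x0 : ∀ l, l < 1 → run3 10 [] 61 2 1 0 1 l = true
  | 0, _ => c2x0x0
  | _ + 1, h => absurd h (by omega)

theorem r2 : ∀ j, j < 1 → ∃ n3, 0 < n3 ∧ ∀ l, l < n3 → run3 10 [] 61 2 1 j n3 l = true
  | 0, _ => ⟨1, by decide, s2x0⟩
  | _ + 1, h => absurd h (by omega)

theorem s3x0 : ∀ l, l < 1 → run3 10 [] 61 3 5 0 1 l = true
  | 0, _ => c3x0x0
  | _ + 1, h => absurd h (by omega)

theorem s3x1 : ∀ l, l < 1 → run3 10 [] 61 3 5 1 1 l = true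
  | 0, _ => c3x1x0
  | _ + 1, h => absurd h (by omega)

theorem s3x2 : ∀ l, l < 1 → run3 10 [] 61 3 5 2 1 l = true
  | 0, _ => c3x2x0
  | _ + 1, h => absurd h (by omega)

theorem s3x3 : ∀ l, l < 1 → run3 10 [] 61 3 5 3 1 l = true
  | 0, _ => c3x3x0
  | _ + 1, h => absurd h (by omega)

theorem s3x4 : ∀ l, l < 1 → run3 10 [] 61 3 5 4 1 l = true
  | 0, _ => c3x4x0
  | _ + 1, h => absurd h (by omega)

theorem r3 : ∀ j, j < 5 → ∃ n3, 0 < n3 ∧ ∀ l, l < n3 → run3 10 [] 61 3 5 j n3 l = true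
  | 0, _ => ⟨1, by decide, s3x0⟩
  | 1, _ => ⟨1, by decide, s3x1⟩
  | 2, _ => ⟨1, by decide, s3x2⟩
  | 3, _ => ⟨1, by decide, s3x3⟩
  | 4, _ => ⟨1, by decide, s3x4⟩
  | _ + 5, h => absurd h (by omega)

theorem s4x0 : ∀ l, l < 1 → run3 10 [] 61 4 1 0 1 l = true
  | 0, _ => c4x0x0
  | _ + 1, h => absurd h (by omega)

theorem r4 : ∀ j, j < 1 → ∃ n3, 0 < n3 ∧ ∀ l, l < n3 → run3 10 [] 61 4 1 j n3 l = true
  | 0, _ => ⟨1, by decide, s4x0⟩
  | _ + 1, h => absurd h (by omega)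

theorem s5x0 : ∀ l, l < 1 → run3 10 [] 61 5 59 0 1 l = true
  | 0, _ => c5x0x0
  | _ + 1, h => absurd h (by omega)

theorem s5x1 : ∀ l, l < 1 → run3 10 [] 61 5 59 1 1 l = true
  | 0, _ => c5x1x0
  | _ + 1, h => absurd h (by omega)

theorem s5x2 : ∀ l, l < 1 → run3 10 [] 61 5 59 2 1 l = true
  | 0, _ => c5x2x0
  | _ + 1, h => absurd h (by omega)

theorem s5x3 : ∀ l, l < 1 → run3 10 [] 61 5 59 3 1 l = true
  | 0, _ => c5x3x0
  | _ + 1, h => absurd h (by omega)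

theorem s5x4 : ∀ l, l < 1 → run3 10 [] 61 5 59 4 1 l = true
  | 0, _ => c5x4x0
  | _ + 1, h => absurd h (by omega)

theorem s5x5 : ∀ l, l < 11 → run3 10 [] 61 5 59 5 11 l = true
  | 0, _ => c5x5x0
  | 1, _ => c5x5x1
  | 2, _ => c5x5x2
  | 3, _ => c5x5x3
  | 4, _ => c5x5x4
  | 5, _ => c5x5x5
  | 6, _ => c5x5x6
  | 7, _ => c5x5x7
  | 8, _ => c5x5x8
  | 9, _ => c5x5x9
  | 10, _ => c5x5x10
  | _ + 11, h => absurd h (by omega)

theorem s5x6 : ∀ l, l < 1 → run3 10 [] 61 5 59 6 1 l = true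
  | 0, _ => c5x6x0
  | _ + 1, h => absurd h (by omega)

theorem s5x7 : ∀ l, l < 1 → run3 10 [] 61 5 59 7 1 l = true
  | 0, _ => c5x7x0
  | _ + 1, h => absurd h (by omega)

theorem s5x8 : ∀ l, l < 1 → run3 10 [] 61 5 59 8 1 l = true
  | 0, _ => c5x8x0
  | _ + 1, h => absurd h (by omega)

theorem s5x9 : ∀ l, l < 1 → run3 10 [] 61 5 59 9 1 l = true
  | 0, _ => c5x9x0
  | _ + 1, h => absurd h (by omega)

theorem s5x10 : ∀ l, l < 1 → run3 10 [] 61 5 59 10 1 l = true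
  | 0, _ => c5x10x0
  | _ + 1, h => absurd h (by omega)

theorem s5x11 : ∀ l, l < 3 → run3 10 [] 61 5 59 11 3 l = true
  | 0, _ => c5x11x0
  | 1, _ => c5x11x1
  | 2, _ => c5x11x2
  | _ + 3, h => absurd h (by omega)

theorem s5x12 : ∀ l, l < 3 → run3 10 [] 61 5 59 12 3 l = true
  | 0, _ => c5x12x0
  | 1, _ => c5x12x1
  | 2, _ => c5x12x2
  | _ + 3, h => absurd h (by omega)

theorem s5x13 : ∀ l, l < 1 → run3 10 [] 61 5 59 13 1 l = true
  | 0, _ => c5x13x0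
  | _ + 1, h => absurd h (by omega)

theorem s5x14 : ∀ l, l < 1 → run3 10 [] 61 5 59 14 1 l = true
  | 0, _ => c5x14x0
  | _ + 1, h => absurd h (by omega)

theorem s5x15 : ∀ l, l < 3 → run3 10 [] 61 5 59 15 3 l = true
  | 0, _ => c5x15x0
  | 1, _ => c5x15x1
  | 2, _ => c5x15x2
  | _ + 3, h => absurd h (by omega)

theorem s5x16 : ∀ l, l < 1 → run3 10 [] 61 5 59 16 1 l = true
  | 0, _ => c5x16x0
  | _ + 1, h => absurd h (by omega)

theorem s5x17 : ∀ l, l < 1 → run3 10 [] 61 5 59 17 1 l = true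
  | 0, _ => c5x17x0
  | _ + 1, h => absurd h (by omega)

theorem s5x18 : ∀ l, l < 1 → run3 10 [] 61 5 59 18 1 l = true
  | 0, _ => c5x18x0
  | _ + 1, h => absurd h (by omega)

theorem s5x19 : ∀ l, l < 1 → run3 10 [] 61 5 59 19 1 l = true
  | 0, _ => c5x19x0
  | _ + 1, h => absurd h (by omega)

theorem s5x20 : ∀ l, l < 1 → run3 10 [] 61 5 59 20 1 l = true
  | 0, _ => c5x20x0
  | _ + 1, h => absurd h (by omega)

theorem s5x21 : ∀ l, l < 3 → run3 10 [] 61 5 59 21 3 l = true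
  | 0, _ => c5x21x0
  | 1, _ => c5x21x1
  | 2, _ => c5x21x2
  | _ + 3, h => absurd h (by omega)

theorem s5x22 : ∀ l, l < 1 → run3 10 [] 61 5 59 22 1 l = true
  | 0, _ => c5x22x0
  | _ + 1, h => absurd h (by omega)

theorem s5x23 : ∀ l, l < 1 → run3 10 [] 61 5 59 23 1 l = true
  | 0, _ => c5x23x0
  | _ + 1, h => absurd h (by omega)

theorem s5x24 : ∀ l, l < 1 → run3 10 [] 61 5 59 24 1 l = true
  | 0, _ => c5x24x0
  | _ + 1, h => absurd h (by omega)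

theorem s5x25 : ∀ l, l < 1 → run3 10 [] 61 5 59 25 1 l = true
  | 0, _ => c5x25x0
  | _ + 1, h => absurd h (by omega)

theorem s5x26 : ∀ l, l < 1 → run3 10 [] 61 5 59 26 1 l = true
  | 0, _ => c5x26x0
  | _ + 1, h => absurd h (by omega)

theorem s5x27 : ∀ l, l < 1 → run3 10 [] 61 5 59 27 1 l = true
  | 0, _ => c5x27x0
  | _ + 1, h => absurd h (by omega)

theorem s5x28 : ∀ l, l < 1 → run3 10 [] 61 5 59 28 1 l = true
  | 0, _ => c5x28x0
  | _ + 1, h => absurd h (by omega)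

theorem s5x29 : ∀ l, l < 1 → run3 10 [] 61 5 59 29 1 l = true
  | 0, _ => c5x29x0
  | _ + 1, h => absurd h (by omega)

theorem s5x30 : ∀ l, l < 1 → run3 10 [] 61 5 59 30 1 l = true
  | 0, _ => c5x30x0
  | _ + 1, h => absurd h (by omega)

theorem s5x31 : ∀ l, l < 1 → run3 10 [] 61 5 59 31 1 l = true
  | 0, _ => c5x31x0
  | _ + 1, h => absurd h (by omega)

theorem s5x32 : ∀ l, l < 1 → run3 10 [] 61 5 59 32 1 l = true
  | 0, _ => c5x32x0
  | _ + 1, h => absurd h (by omega)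

theorem s5x33 : ∀ l, l < 1 → run3 10 [] 61 5 59 33 1 l = true
  | 0, _ => c5x33x0
  | _ + 1, h => absurd h (by omega)

theorem s5x34 : ∀ l, l < 1 → run3 10 [] 61 5 59 34 1 l = true
  | 0, _ => c5x34x0
  | _ + 1, h => absurd h (by omega)

theorem s5x35 : ∀ l, l < 1 → run3 10 [] 61 5 59 35 1 l = true
  | 0, _ => c5x35x0
  | _ + 1, h => absurd h (by omega)

theorem s5x36 : ∀ l, l < 1 → run3 10 [] 61 5 59 36 1 l = true
  | 0, _ => c5x36x0
  | _ + 1, h => absurd h (by omega)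

theorem s5x37 : ∀ l, l < 1 → run3 10 [] 61 5 59 37 1 l = true
  | 0, _ => c5x37x0
  | _ + 1, h => absurd h (by omega)

theorem s5x38 : ∀ l, l < 1 → run3 10 [] 61 5 59 38 1 l = true
  | 0, _ => c5x38x0
  | _ + 1, h => absurd h (by omega)

theorem s5x39 : ∀ l, l < 1 → run3 10 [] 61 5 59 39 1 l = true
  | 0, _ => c5x39x0
  | _ + 1, h => absurd h (by omega)

theorem s5x40 : ∀ l, l < 1 → run3 10 [] 61 5 59 40 1 l = true
  | 0, _ => c5x40x0
  | _ + 1, h => absurd h (by omega)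

theorem s5x41 : ∀ l, l < 3 → run3 10 [] 61 5 59 41 3 l = true
  | 0, _ => c5x41x0
  | 1, _ => c5x41x1
  | 2, _ => c5x41x2
  | _ + 3, h => absurd h (by omega)

theorem s5x42 : ∀ l, l < 1 → run3 10 [] 61 5 59 42 1 l = true
  | 0, _ => c5x42x0
  | _ + 1, h => absurd h (by omega)

theorem s5x43 : ∀ l, l < 1 → run3 10 [] 61 5 59 43 1 l = true
  | 0, _ => c5x43x0
  | _ + 1, h => absurd h (by omega)

theorem s5x44 : ∀ l, l < 1 → run3 10 [] 61 5 59 44 1 l = true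
  | 0, _ => c5x44x0
  | _ + 1, h => absurd h (by omega)

theorem s5x45 : ∀ l, l < 1 → run3 10 [] 61 5 59 45 1 l = true
  | 0, _ => c5x45x0
  | _ + 1, h => absurd h (by omega)

theorem s5x46 : ∀ l, l < 3 → run3 10 [] 61 5 59 46 3 l = true
  | 0, _ => c5x46x0
  | 1, _ => c5x46x1
  | 2, _ => c5x46x2
  | _ + 3, h => absurd h (by omega)

theorem s5x47 : ∀ l, l < 1 → run3 10 [] 61 5 59 47 1 l = true
  | 0, _ => c5x47x0
  | _ + 1, h => absurd h (by omega)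

theorem s5x48 : ∀ l, l < 1 → run3 10 [] 61 5 59 48 1 l = true
  | 0, _ => c5x48x0
  | _ + 1, h => absurd h (by omega)

theorem s5x49 : ∀ l, l < 5 → run3 10 [] 61 5 59 49 5 l = true
  | 0, _ => c5x49x0
  | 1, _ => c5x49x1
  | 2, _ => c5x49x2
  | 3, _ => c5x49x3
  | 4, _ => c5x49x4
  | _ + 5, h => absurd h (by omega)

theorem s5x50 : ∀ l, l < 3 → run3 10 [] 61 5 59 50 3 l = true
  | 0, _ => c5x50x0
  | 1, _ => c5x50x1
  | 2, _ => c5x50x2
  | _ + 3, h => absurd h (by omega)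

theorem s5x51 : ∀ l, l < 1 → run3 10 [] 61 5 59 51 1 l = true
  | 0, _ => c5x51x0
  | _ + 1, h => absurd h (by omega)

theorem s5x52 : ∀ l, l < 1 → run3 10 [] 61 5 59 52 1 l = true
  | 0, _ => c5x52x0
  | _ + 1, h => absurd h (by omega)

theorem s5x53 : ∀ l, l < 1 → run3 10 [] 61 5 59 53 1 l = true
  | 0, _ => c5x53x0
  | _ + 1, h => absurd h (by omega)

theorem s5x54 : ∀ l, l < 1 → run3 10 [] 61 5 59 54 1 l = true
  | 0, _ => c5x54x0
  | _ + 1, h => absurd h (by omega)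

theorem s5x55 : ∀ l, l < 7 → run3 10 [] 61 5 59 55 7 l = true
  | 0, _ => c5x55x0
  | 1, _ => c5x55x1
  | 2, _ => c5x55x2
  | 3, _ => c5x55x3
  | 4, _ => c5x55x4
  | 5, _ => c5x55x5
  | 6, _ => c5x55x6
  | _ + 7, h => absurd h (by omega)

theorem s5x56 : ∀ l, l < 1 → run3 10 [] 61 5 59 56 1 l = true
  | 0, _ => c5x56x0
  | _ + 1, h => absurd h (by omega)

theorem s5x57 : ∀ l, l < 1 → run3 10 [] 61 5 59 57 1 l = true
  | 0, _ => c5x57x0
  | _ + 1, h => absurd h (by omega)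

theorem s5x58 : ∀ l, l < 5 → run3 10 [] 61 5 59 58 5 l = true
  | 0, _ => c5x58x0
  | 1, _ => c5x58x1
  | 2, _ => c5x58x2
  | 3, _ => c5x58x3
  | 4, _ => c5x58x4
  | _ + 5, h => absurd h (by omega)

theorem r5 : ∀ j, j < 59 → ∃ n3, 0 < n3 ∧ ∀ l, l < n3 → run3 10 [] 61 5 59 j n3 l = true
  | 0, _ => ⟨1, by decide, s5x0⟩
  | 1, _ => ⟨1, by decide, s5x1⟩
  | 2, _ => ⟨1, by decide, s5x2⟩
  | 3, _ => ⟨1, by decide, s5x3⟩
  | 4, _ => ⟨1, by decide, s5x4⟩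
  | 5, _ => ⟨11, by decide, s5x5⟩
  | 6, _ => ⟨1, by decide, s5x6⟩
  | 7, _ => ⟨1, by decide, s5x7⟩
  | 8, _ => ⟨1, by decide, s5x8⟩
  | 9, _ => ⟨1, by decide, s5x9⟩
  | 10, _ => ⟨1, by decide, s5x10⟩
  | 11, _ => ⟨3, by decide, s5x11⟩
  | 12, _ => ⟨3, by decide, s5x12⟩
  | 13, _ => ⟨1, by decide, s5x13⟩
  | 14, _ => ⟨1, by decide, s5x14⟩
  | 15, _ => ⟨3, by decide, s5x15⟩
  | 16, _ => ⟨1, by decide, s5x16⟩
  | 17, _ => ⟨1, by decide, s5x17⟩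
  | 18, _ => ⟨1, by decide, s5x18⟩
  | 19, _ => ⟨1, by decide, s5x19⟩
  | 20, _ => ⟨1, by decide, s5x20⟩
  | 21, _ => ⟨3, by decide, s5x21⟩
  | 22, _ => ⟨1, by decide, s5x22⟩
  | 23, _ => ⟨1, by decide, s5x23⟩
  | 24, _ => ⟨1, by decide, s5x24⟩
  | 25, _ => ⟨1, by decide, s5x25⟩
  | 26, _ => ⟨1, by decide, s5x26⟩
  | 27, _ => ⟨1, by decide, s5x27⟩
  | 28, _ => ⟨1, by decide, s5x28⟩
  | 29, _ => ⟨1, by decide, s5x29⟩
  | 30, _ => ⟨1, by decide, s5x30⟩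
  | 31, _ => ⟨1, by decide, s5x31⟩
  | 32, _ => ⟨1, by decide, s5x32⟩
  | 33, _ => ⟨1, by decide, s5x33⟩
  | 34, _ => ⟨1, by decide, s5x34⟩
  | 35, _ => ⟨1, by decide, s5x35⟩
  | 36, _ => ⟨1, by decide, s5x36⟩
  | 37, _ => ⟨1, by decide, s5x37⟩
  | 38, _ => ⟨1, by decide, s5x38⟩
  | 39, _ => ⟨1, by decide, s5x39⟩
  | 40, _ => ⟨1, by decide, s5x40⟩
  | 41, _ => ⟨3, by decide, s5x41⟩
  | 42, _ => ⟨1, by decide, s5x42⟩
  | 43, _ => ⟨1, by decide, s5x43⟩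
  | 44, _ => ⟨1, by decide, s5x44⟩
  | 45, _ => ⟨1, by decide, s5x45⟩
  | 46, _ => ⟨3, by decide, s5x46⟩
  | 47, _ => ⟨1, by decide, s5x47⟩
  | 48, _ => ⟨1, by decide, s5x48⟩
  | 49, _ => ⟨5, by decide, s5x49⟩
  | 50, _ => ⟨3, by decide, s5x50⟩
  | 51, _ => ⟨1, by decide, s5x51⟩
  | 52, _ => ⟨1, by decide, s5x52⟩
  | 53, _ => ⟨1, by decide, s5x53⟩
  | 54, _ => ⟨1, by decide, s5x54⟩
  | 55, _ => ⟨7, by decide, s5x55⟩
  | 56, _ => ⟨1, by decide, s5x56⟩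
  | 57, _ => ⟨1, by decide, s5x57⟩
  | 58, _ => ⟨5, by decide, s5x58⟩
  | _ + 59, h => absurd h (by omega)

theorem s6x0 : ∀ l, l < 1 → run3 10 [] 61 6 1 0 1 l = true
  | 0, _ => c6x0x0
  | _ + 1, h => absurd h (by omega)

theorem r6 : ∀ j, j < 1 → ∃ n3, 0 < n3 ∧ ∀ l, l < n3 → run3 10 [] 61 6 1 j n3 l = true
  | 0, _ => ⟨1, by decide, s6x0⟩
  | _ + 1, h => absurd h (by omega)

theorem s7x0 : ∀ l, l < 1 → run3 10 [] 61 7 1 0 1 l = true
  | 0, _ => c7x0x0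
  | _ + 1, h => absurd h (by omega)

theorem r7 : ∀ j, j < 1 → ∃ n3, 0 < n3 ∧ ∀ l, l < n3 → run3 10 [] 61 7 1 j n3 l = true
  | 0, _ => ⟨1, by decide, s7x0⟩
  | _ + 1, h => absurd h (by omega)

theorem s8x0 : ∀ l, l < 1 → run3 10 [] 61 8 1 0 1 l = true
  | 0, _ => c8x0x0
  | _ + 1, h => absurd h (by omega)

theorem r8 : ∀ j, j < 1 → ∃ n3, 0 < n3 ∧ ∀ l, l < n3 → run3 10 [] 61 8 1 j n3 l = true
  | 0, _ => ⟨1, by decide, s8x0⟩
  | _ + 1, h => absurd h (by omega)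

theorem s9x0 : ∀ l, l < 7 → run3 10 [] 61 9 49 0 7 l = true
  | 0, _ => c9x0x0
  | 1, _ => c9x0x1
  | 2, _ => c9x0x2
  | 3, _ => c9x0x3
  | 4, _ => c9x0x4
  | 5, _ => c9x0x5
  | 6, _ => c9x0x6
  | _ + 7, h => absurd h (by omega)

theorem s9x1 : ∀ l, l < 1 → run3 10 [] 61 9 49 1 1 l = true
  | 0, _ => c9x1x0
  | _ + 1, h => absurd h (by omega)

theorem s9x2 : ∀ l, l < 3 → run3 10 [] 61 9 49 2 3 l = true
  | 0, _ => c9x2x0
  | 1, _ => c9x2x1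
  | 2, _ => c9x2x2
  | _ + 3, h => absurd h (by omega)

theorem s9x3 : ∀ l, l < 1 → run3 10 [] 61 9 49 3 1 l = true
  | 0, _ => c9x3x0
  | _ + 1, h => absurd h (by omega)

theorem s9x4 : ∀ l, l < 1 → run3 10 [] 61 9 49 4 1 l = true
  | 0, _ => c9x4x0
  | _ + 1, h => absurd h (by omega)

theorem s9x5 : ∀ l, l < 1 → run3 10 [] 61 9 49 5 1 l = true
  | 0, _ => c9x5x0
  | _ + 1, h => absurd h (by omega)

theorem s9x6 : ∀ l, l < 1 → run3 10 [] 61 9 49 6 1 l = true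
  | 0, _ => c9x6x0
  | _ + 1, h => absurd h (by omega)

theorem s9x7 : ∀ l, l < 1 → run3 10 [] 61 9 49 7 1 l = true
  | 0, _ => c9x7x0
  | _ + 1, h => absurd h (by omega)

theorem s9x8 : ∀ l, l < 1 → run3 10 [] 61 9 49 8 1 l = true
  | 0, _ => c9x8x0
  | _ + 1, h => absurd h (by omega)

theorem s9x9 : ∀ l, l < 1 → run3 10 [] 61 9 49 9 1 l = true
  | 0, _ => c9x9x0
  | _ + 1, h => absurd h (by omega)

theorem s9x10 : ∀ l, l < 1 → run3 10 [] 61 9 49 10 1 l = true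
  | 0, _ => c9x10x0
  | _ + 1, h => absurd h (by omega)

theorem s9x11 : ∀ l, l < 1 → run3 10 [] 61 9 49 11 1 l = true
  | 0, _ => c9x11x0
  | _ + 1, h => absurd h (by omega)

theorem s9x12 : ∀ l, l < 1 → run3 10 [] 61 9 49 12 1 l = true
  | 0, _ => c9x12x0
  | _ + 1, h => absurd h (by omega)

theorem s9x13 : ∀ l, l < 1 → run3 10 [] 61 9 49 13 1 l = true
  | 0, _ => c9x13x0
  | _ + 1, h => absurd h (by omega)

theorem s9x14 : ∀ l, l < 1 → run3 10 [] 61 9 49 14 1 l = true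
  | 0, _ => c9x14x0
  | _ + 1, h => absurd h (by omega)

theorem s9x15 : ∀ l, l < 5 → run3 10 [] 61 9 49 15 5 l = true
  | 0, _ => c9x15x0
  | 1, _ => c9x15x1
  | 2, _ => c9x15x2
  | 3, _ => c9x15x3
  | 4, _ => c9x15x4
  | _ + 5, h => absurd h (by omega)

theorem s9x16 : ∀ l, l < 1 → run3 10 [] 61 9 49 16 1 l = true
  | 0, _ => c9x16x0
  | _ + 1, h => absurd h (by omega)

theorem s9x17 : ∀ l, l < 1 → run3 10 [] 61 9 49 17 1 l = true
  | 0, _ => c9x17x0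
  | _ + 1, h => absurd h (by omega)

theorem s9x18 : ∀ l, l < 1 → run3 10 [] 61 9 49 18 1 l = true
  | 0, _ => c9x18x0
  | _ + 1, h => absurd h (by omega)

theorem s9x19 : ∀ l, l < 1 → run3 10 [] 61 9 49 19 1 l = true
  | 0, _ => c9x19x0
  | _ + 1, h => absurd h (by omega)

theorem s9x20 : ∀ l, l < 1 → run3 10 [] 61 9 49 20 1 l = true
  | 0, _ => c9x20x0
  | _ + 1, h => absurd h (by omega)

theorem s9x21 : ∀ l, l < 3 → run3 10 [] 61 9 49 21 3 l = true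
  | 0, _ => c9x21x0
  | 1, _ => c9x21x1
  | 2, _ => c9x21x2
  | _ + 3, h => absurd h (by omega)

theorem s9x22 : ∀ l, l < 1 → run3 10 [] 61 9 49 22 1 l = true
  | 0, _ => c9x22x0
  | _ + 1, h => absurd h (by omega)

theorem s9x23 : ∀ l, l < 1 → run3 10 [] 61 9 49 23 1 l = true
  | 0, _ => c9x23x0
  | _ + 1, h => absurd h (by omega)

theorem s9x24 : ∀ l, l < 1 → run3 10 [] 61 9 49 24 1 l = true
  | 0, _ => c9x24x0
  | _ + 1, h => absurd h (by omega)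

theorem s9x25 : ∀ l, l < 1 → run3 10 [] 61 9 49 25 1 l = true
  | 0, _ => c9x25x0
  | _ + 1, h => absurd h (by omega)

theorem s9x26 : ∀ l, l < 1 → run3 10 [] 61 9 49 26 1 l = true
  | 0, _ => c9x26x0
  | _ + 1, h => absurd h (by omega)

theorem s9x27 : ∀ l, l < 3 → run3 10 [] 61 9 49 27 3 l = true
  | 0, _ => c9x27x0
  | 1, _ => c9x27x1
  | 2, _ => c9x27x2
  | _ + 3, h => absurd h (by omega)

theorem s9x28 : ∀ l, l < 3 → run3 10 [] 61 9 49 28 3 l = true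
  | 0, _ => c9x28x0
  | 1, _ => c9x28x1
  | 2, _ => c9x28x2
  | _ + 3, h => absurd h (by omega)

theorem s9x29 : ∀ l, l < 1 → run3 10 [] 61 9 49 29 1 l = true
  | 0, _ => c9x29x0
  | _ + 1, h => absurd h (by omega)

theorem s9x30 : ∀ l, l < 1 → run3 10 [] 61 9 49 30 1 l = true
  | 0, _ => c9x30x0
  | _ + 1, h => absurd h (by omega)

theorem s9x31 : ∀ l, l < 5 → run3 10 [] 61 9 49 31 5 l = true
  | 0, _ => c9x31x0
  | 1, _ => c9x31x1
  | 2, _ => c9x31x2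
  | 3, _ => c9x31x3
  | 4, _ => c9x31x4
  | _ + 5, h => absurd h (by omega)

theorem s9x32 : ∀ l, l < 1 → run3 10 [] 61 9 49 32 1 l = true
  | 0, _ => c9x32x0
  | _ + 1, h => absurd h (by omega)

theorem s9x33 : ∀ l, l < 1 → run3 10 [] 61 9 49 33 1 l = true
  | 0, _ => c9x33x0
  | _ + 1, h => absurd h (by omega)

theorem s9x34 : ∀ l, l < 1 → run3 10 [] 61 9 49 34 1 l = true
  | 0, _ => c9x34x0
  | _ + 1, h => absurd h (by omega)

theorem s9x35 : ∀ l, l < 1 → run3 10 [] 61 9 49 35 1 l = true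
  | 0, _ => c9x35x0
  | _ + 1, h => absurd h (by omega)

theorem s9x36 : ∀ l, l < 1 → run3 10 [] 61 9 49 36 1 l = true
  | 0, _ => c9x36x0
  | _ + 1, h => absurd h (by omega)

theorem s9x37 : ∀ l, l < 5 → run3 10 [] 61 9 49 37 5 l = true
  | 0, _ => c9x37x0
  | 1, _ => c9x37x1
  | 2, _ => c9x37x2
  | 3, _ => c9x37x3
  | 4, _ => c9x37x4
  | _ + 5, h => absurd h (by omega)

theorem s9x38 : ∀ l, l < 1 → run3 10 [] 61 9 49 38 1 l = true
  | 0, _ => c9x38x0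
  | _ + 1, h => absurd h (by omega)

theorem s9x39 : ∀ l, l < 3 → run3 10 [] 61 9 49 39 3 l = true
  | 0, _ => c9x39x0
  | 1, _ => c9x39x1
  | 2, _ => c9x39x2
  | _ + 3, h => absurd h (by omega)

theorem s9x40 : ∀ l, l < 1 → run3 10 [] 61 9 49 40 1 l = true
  | 0, _ => c9x40x0
  | _ + 1, h => absurd h (by omega)

theorem s9x41 : ∀ l, l < 1 → run3 10 [] 61 9 49 41 1 l = true
  | 0, _ => c9x41x0
  | _ + 1, h => absurd h (by omega)

theorem s9x42 : ∀ l, l < 1 → run3 10 [] 61 9 49 42 1 l = true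
  | 0, _ => c9x42x0
  | _ + 1, h => absurd h (by omega)

theorem s9x43 : ∀ l, l < 1 → run3 10 [] 61 9 49 43 1 l = true
  | 0, _ => c9x43x0
  | _ + 1, h => absurd h (by omega)

theorem s9x44 : ∀ l, l < 1 → run3 10 [] 61 9 49 44 1 l = true
  | 0, _ => c9x44x0
  | _ + 1, h => absurd h (by omega)

theorem s9x45 : ∀ l, l < 5 → run3 10 [] 61 9 49 45 5 l = true
  | 0, _ => c9x45x0
  | 1, _ => c9x45x1
  | 2, _ => c9x45x2
  | 3, _ => c9x45x3
  | 4, _ => c9x45x4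
  | _ + 5, h => absurd h (by omega)

theorem s9x46 : ∀ l, l < 1 → run3 10 [] 61 9 49 46 1 l = true
  | 0, _ => c9x46x0
  | _ + 1, h => absurd h (by omega)

theorem s9x47 : ∀ l, l < 1 → run3 10 [] 61 9 49 47 1 l = true
  | 0, _ => c9x47x0
  | _ + 1, h => absurd h (by omega)

theorem s9x48 : ∀ l, l < 1 → run3 10 [] 61 9 49 48 1 l = true
  | 0, _ => c9x48x0
  | _ + 1, h => absurd h (by omega)

theorem r9 : ∀ j, j < 49 → ∃ n3, 0 < n3 ∧ ∀ l, l < n3 → run3 10 [] 61 9 49 j n3 l = true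
  | 0, _ => ⟨7, by decide, s9x0⟩
  | 1, _ => ⟨1, by decide, s9x1⟩
  | 2, _ => ⟨3, by decide, s9x2⟩
  | 3, _ => ⟨1, by decide, s9x3⟩
  | 4, _ => ⟨1, by decide, s9x4⟩
  | 5, _ => ⟨1, by decide, s9x5⟩
  | 6, _ => ⟨1, by decide, s9x6⟩
  | 7, _ => ⟨1, by decide, s9x7⟩
  | 8, _ => ⟨1, by decide, s9x8⟩
  | 9, _ => ⟨1, by decide, s9x9⟩
  | 10, _ => ⟨1, by decide, s9x10⟩
  | 11, _ => ⟨1, by decide, s9x11⟩
  | 12, _ => ⟨1, by decide, s9x12⟩
  | 13, _ => ⟨1, by decide, s9x13⟩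
  | 14, _ => ⟨1, by decide, s9x14⟩
  | 15, _ => ⟨5, by decide, s9x15⟩
  | 16, _ => ⟨1, by decide, s9x16⟩
  | 17, _ => ⟨1, by decide, s9x17⟩
  | 18, _ => ⟨1, by decide, s9x18⟩
  | 19, _ => ⟨1, by decide, s9x19⟩
  | 20, _ => ⟨1, by decide, s9x20⟩
  | 21, _ => ⟨3, by decide, s9x21⟩
  | 22, _ => ⟨1, by decide, s9x22⟩
  | 23, _ => ⟨1, by decide, s9x23⟩
  | 24, _ => ⟨1, by decide, s9x24⟩
  | 25, _ => ⟨1, by decide, s9x25⟩
  | 26, _ => ⟨1, by decide, s9x26⟩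
  | 27, _ => ⟨3, by decide, s9x27⟩
  | 28, _ => ⟨3, by decide, s9x28⟩
  | 29, _ => ⟨1, by decide, s9x29⟩
  | 30, _ => ⟨1, by decide, s9x30⟩
  | 31, _ => ⟨5, by decide, s9x31⟩
  | 32, _ => ⟨1, by decide, s9x32⟩
  | 33, _ => ⟨1, by decide, s9x33⟩
  | 34, _ => ⟨1, by decide, s9x34⟩
  | 35, _ => ⟨1, by decide, s9x35⟩
  | 36, _ => ⟨1, by decide, s9x36⟩
  | 37, _ => ⟨5, by decide, s9x37⟩
  | 38, _ => ⟨1, by decide, s9x38⟩
  | 39, _ => ⟨3, by decide, s9x39⟩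
  | 40, _ => ⟨1, by decide, s9x40⟩
  | 41, _ => ⟨1, by decide, s9x41⟩
  | 42, _ => ⟨1, by decide, s9x42⟩
  | 43, _ => ⟨1, by decide, s9x43⟩
  | 44, _ => ⟨1, by decide, s9x44⟩
  | 45, _ => ⟨5, by decide, s9x45⟩
  | 46, _ => ⟨1, by decide, s9x46⟩
  | 47, _ => ⟨1, by decide, s9x47⟩
  | 48, _ => ⟨1, by decide, s9x48⟩
  | _ + 49, h => absurd h (by omega)

theorem s10x0 : ∀ l, l < 1 → run3 10 [] 61 10 7 0 1 l = true
  | 0, _ => c10x0x0
  | _ + 1, h => absurd h (by omega)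

theorem s10x1 : ∀ l, l < 1 → run3 10 [] 61 10 7 1 1 l = true
  | 0, _ => c10x1x0
  | _ + 1, h => absurd h (by omega)

theorem s10x2 : ∀ l, l < 3 → run3 10 [] 61 10 7 2 3 l = true
  | 0, _ => c10x2x0
  | 1, _ => c10x2x1
  | 2, _ => c10x2x2
  | _ + 3, h => absurd h (by omega)

theorem s10x3 : ∀ l, l < 1 → run3 10 [] 61 10 7 3 1 l = true
  | 0, _ => c10x3x0
  | _ + 1, h => absurd h (by omega)

theorem s10x4 : ∀ l, l < 1 → run3 10 [] 61 10 7 4 1 l = true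
  | 0, _ => c10x4x0
  | _ + 1, h => absurd h (by omega)

theorem s10x5 : ∀ l, l < 1 → run3 10 [] 61 10 7 5 1 l = true
  | 0, _ => c10x5x0
  | _ + 1, h => absurd h (by omega)

theorem s10x6 : ∀ l, l < 1 → run3 10 [] 61 10 7 6 1 l = true
  | 0, _ => c10x6x0
  | _ + 1, h => absurd h (by omega)

theorem r10 : ∀ j, j < 7 → ∃ n3, 0 < n3 ∧ ∀ l, l < n3 → run3 10 [] 61 10 7 j n3 l = true
  | 0, _ => ⟨1, by decide, s10x0⟩
  | 1, _ => ⟨1, by decide, s10x1⟩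
  | 2, _ => ⟨3, by decide, s10x2⟩
  | 3, _ => ⟨1, by decide, s10x3⟩
  | 4, _ => ⟨1, by decide, s10x4⟩
  | 5, _ => ⟨1, by decide, s10x5⟩
  | 6, _ => ⟨1, by decide, s10x6⟩
  | _ + 7, h => absurd h (by omega)

theorem s11x0 : ∀ l, l < 1 → run3 10 [] 61 11 87 0 1 l = true
  | 0, _ => c11x0x0
  | _ + 1, h => absurd h (by omega)

theorem s11x1 : ∀ l, l < 1 → run3 10 [] 61 11 87 1 1 l = true
  | 0, _ => c11x1x0
  | _ + 1, h => absurd h (by omega)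

theorem s11x2 : ∀ l, l < 1 → run3 10 [] 61 11 87 2 1 l = true
  | 0, _ => c11x2x0
  | _ + 1, h => absurd h (by omega)

theorem s11x3 : ∀ l, l < 1 → run3 10 [] 61 11 87 3 1 l = true
  | 0, _ => c11x3x0
  | _ + 1, h => absurd h (by omega)

theorem s11x4 : ∀ l, l < 1 → run3 10 [] 61 11 87 4 1 l = true
  | 0, _ => c11x4x0
  | _ + 1, h => absurd h (by omega)

theorem s11x5 : ∀ l, l < 1 → run3 10 [] 61 11 87 5 1 l = true
  | 0, _ => c11x5x0
  | _ + 1, h => absurd h (by omega)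

theorem s11x6 : ∀ l, l < 1 → run3 10 [] 61 11 87 6 1 l = true
  | 0, _ => c11x6x0
  | _ + 1, h => absurd h (by omega)

theorem s11x7 : ∀ l, l < 1 → run3 10 [] 61 11 87 7 1 l = true
  | 0, _ => c11x7x0
  | _ + 1, h => absurd h (by omega)

theorem s11x8 : ∀ l, l < 1 → run3 10 [] 61 11 87 8 1 l = true
  | 0, _ => c11x8x0
  | _ + 1, h => absurd h (by omega)

theorem s11x9 : ∀ l, l < 1 → run3 10 [] 61 11 87 9 1 l = true
  | 0, _ => c11x9x0
  | _ + 1, h => absurd h (by omega)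

theorem s11x10 : ∀ l, l < 1 → run3 10 [] 61 11 87 10 1 l = true
  | 0, _ => c11x10x0
  | _ + 1, h => absurd h (by omega)

theorem s11x11 : ∀ l, l < 1 → run3 10 [] 61 11 87 11 1 l = true
  | 0, _ => c11x11x0
  | _ + 1, h => absurd h (by omega)

theorem s11x12 : ∀ l, l < 5 → run3 10 [] 61 11 87 12 5 l = true
  | 0, _ => c11x12x0
  | 1, _ => c11x12x1
  | 2, _ => c11x12x2
  | 3, _ => c11x12x3
  | 4, _ => c11x12x4
  | _ + 5, h => absurd h (by omega)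

theorem s11x13 : ∀ l, l < 1 → run3 10 [] 61 11 87 13 1 l = true
  | 0, _ => c11x13x0
  | _ + 1, h => absurd h (by omega)

theorem s11x14 : ∀ l, l < 1 → run3 10 [] 61 11 87 14 1 l = true
  | 0, _ => c11x14x0
  | _ + 1, h => absurd h (by omega)

theorem s11x15 : ∀ l, l < 5 → run3 10 [] 61 11 87 15 5 l = true
  | 0, _ => c11x15x0
  | 1, _ => c11x15x1
  | 2, _ => c11x15x2
  | 3, _ => c11x15x3
  | 4, _ => c11x15x4
  | _ + 5, h => absurd h (by omega)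

theorem s11x16 : ∀ l, l < 1 → run3 10 [] 61 11 87 16 1 l = true
  | 0, _ => c11x16x0
  | _ + 1, h => absurd h (by omega)

theorem s11x17 : ∀ l, l < 3 → run3 10 [] 61 11 87 17 3 l = true
  | 0, _ => c11x17x0
  | 1, _ => c11x17x1
  | 2, _ => c11x17x2
  | _ + 3, h => absurd h (by omega)

theorem s11x18 : ∀ l, l < 5 → run3 10 [] 61 11 87 18 5 l = true
  | 0, _ => c11x18x0
  | 1, _ => c11x18x1
  | 2, _ => c11x18x2
  | 3, _ => c11x18x3
  | 4, _ => c11x18x4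
  | _ + 5, h => absurd h (by omega)

theorem s11x19 : ∀ l, l < 1 → run3 10 [] 61 11 87 19 1 l = true
  | 0, _ => c11x19x0
  | _ + 1, h => absurd h (by omega)

theorem s11x20 : ∀ l, l < 3 → run3 10 [] 61 11 87 20 3 l = true
  | 0, _ => c11x20x0
  | 1, _ => c11x20x1
  | 2, _ => c11x20x2
  | _ + 3, h => absurd h (by omega)

theorem s11x21 : ∀ l, l < 3 → run3 10 [] 61 11 87 21 3 l = true
  | 0, _ => c11x21x0
  | 1, _ => c11x21x1
  | 2, _ => c11x21x2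
  | _ + 3, h => absurd h (by omega)

theorem s11x22 : ∀ l, l < 3 → run3 10 [] 61 11 87 22 3 l = true
  | 0, _ => c11x22x0
  | 1, _ => c11x22x1
  | 2, _ => c11x22x2
  | _ + 3, h => absurd h (by omega)

theorem s11x23 : ∀ l, l < 1 → run3 10 [] 61 11 87 23 1 l = true
  | 0, _ => c11x23x0
  | _ + 1, h => absurd h (by omega)

theorem s11x24 : ∀ l, l < 11 → run3 10 [] 61 11 87 24 11 l = true
  | 0, _ => c11x24x0
  | 1, _ => c11x24x1
  | 2, _ => c11x24x2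
  | 3, _ => c11x24x3
  | 4, _ => c11x24x4
  | 5, _ => c11x24x5
  | 6, _ => c11x24x6
  | 7, _ => c11x24x7
  | 8, _ => c11x24x8
  | 9, _ => c11x24x9
  | 10, _ => c11x24x10
  | _ + 11, h => absurd h (by omega)

theorem s11x25 : ∀ l, l < 1 → run3 10 [] 61 11 87 25 1 l = true
  | 0, _ => c11x25x0
  | _ + 1, h => absurd h (by omega)

theorem s11x26 : ∀ l, l < 1 → run3 10 [] 61 11 87 26 1 l = true
  | 0, _ => c11x26x0
  | _ + 1, h => absurd h (by omega)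

theorem s11x27 : ∀ l, l < 3 → run3 10 [] 61 11 87 27 3 l = true
  | 0, _ => c11x27x0
  | 1, _ => c11x27x1
  | 2, _ => c11x27x2
  | _ + 3, h => absurd h (by omega)

theorem s11x28 : ∀ l, l < 1 → run3 10 [] 61 11 87 28 1 l = true
  | 0, _ => c11x28x0
  | _ + 1, h => absurd h (by omega)

theorem s11x29 : ∀ l, l < 1 → run3 10 [] 61 11 87 29 1 l = true
  | 0, _ => c11x29x0
  | _ + 1, h => absurd h (by omega)

theorem s11x30 : ∀ l, l < 5 → run3 10 [] 61 11 87 30 5 l = true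
  | 0, _ => c11x30x0
  | 1, _ => c11x30x1
  | 2, _ => c11x30x2
  | 3, _ => c11x30x3
  | 4, _ => c11x30x4
  | _ + 5, h => absurd h (by omega)

theorem s11x31 : ∀ l, l < 1 → run3 10 [] 61 11 87 31 1 l = true
  | 0, _ => c11x31x0
  | _ + 1, h => absurd h (by omega)

theorem s11x32 : ∀ l, l < 1 → run3 10 [] 61 11 87 32 1 l = true
  | 0, _ => c11x32x0
  | _ + 1, h => absurd h (by omega)

theorem s11x33 : ∀ l, l < 1 → run3 10 [] 61 11 87 33 1 l = true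
  | 0, _ => c11x33x0
  | _ + 1, h => absurd h (by omega)

theorem s11x34 : ∀ l, l < 3 → run3 10 [] 61 11 87 34 3 l = true
  | 0, _ => c11x34x0
  | 1, _ => c11x34x1
  | 2, _ => c11x34x2
  | _ + 3, h => absurd h (by omega)

theorem s11x35 : ∀ l, l < 3 → run3 10 [] 61 11 87 35 3 l = true
  | 0, _ => c11x35x0
  | 1, _ => c11x35x1
  | 2, _ => c11x35x2
  | _ + 3, h => absurd h (by omega)

theorem s11x36 : ∀ l, l < 3 → run3 10 [] 61 11 87 36 3 l = true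
  | 0, _ => c11x36x0
  | 1, _ => c11x36x1
  | 2, _ => c11x36x2
  | _ + 3, h => absurd h (by omega)

theorem s11x37 : ∀ l, l < 1 → run3 10 [] 61 11 87 37 1 l = true
  | 0, _ => c11x37x0
  | _ + 1, h => absurd h (by omega)

theorem s11x38 : ∀ l, l < 1 → run3 10 [] 61 11 87 38 1 l = true
  | 0, _ => c11x38x0
  | _ + 1, h => absurd h (by omega)

theorem s11x39 : ∀ l, l < 3 → run3 10 [] 61 11 87 39 3 l = true
  | 0, _ => c11x39x0
  | 1, _ => c11x39x1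
  | 2, _ => c11x39x2
  | _ + 3, h => absurd h (by omega)

theorem s11x40 : ∀ l, l < 1 → run3 10 [] 61 11 87 40 1 l = true
  | 0, _ => c11x40x0
  | _ + 1, h => absurd h (by omega)

theorem s11x41 : ∀ l, l < 1 → run3 10 [] 61 11 87 41 1 l = true
  | 0, _ => c11x41x0
  | _ + 1, h => absurd h (by omega)

theorem s11x42 : ∀ l, l < 5 → run3 10 [] 61 11 87 42 5 l = true
  | 0, _ => c11x42x0
  | 1, _ => c11x42x1
  | 2, _ => c11x42x2
  | 3, _ => c11x42x3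
  | 4, _ => c11x42x4
  | _ + 5, h => absurd h (by omega)

theorem s11x43 : ∀ l, l < 1 → run3 10 [] 61 11 87 43 1 l = true
  | 0, _ => c11x43x0
  | _ + 1, h => absurd h (by omega)

theorem s11x44 : ∀ l, l < 5 → run3 10 [] 61 11 87 44 5 l = true
  | 0, _ => c11x44x0
  | 1, _ => c11x44x1
  | 2, _ => c11x44x2
  | 3, _ => c11x44x3
  | 4, _ => c11x44x4
  | _ + 5, h => absurd h (by omega)

theorem s11x45 : ∀ l, l < 3 → run3 10 [] 61 11 87 45 3 l = true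
  | 0, _ => c11x45x0
  | 1, _ => c11x45x1
  | 2, _ => c11x45x2
  | _ + 3, h => absurd h (by omega)

theorem s11x46 : ∀ l, l < 1 → run3 10 [] 61 11 87 46 1 l = true
  | 0, _ => c11x46x0
  | _ + 1, h => absurd h (by omega)

theorem s11x47 : ∀ l, l < 1 → run3 10 [] 61 11 87 47 1 l = true
  | 0, _ => c11x47x0
  | _ + 1, h => absurd h (by omega)

theorem s11x48 : ∀ l, l < 5 → run3 10 [] 61 11 87 48 5 l = true
  | 0, _ => c11x48x0
  | 1, _ => c11x48x1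
  | 2, _ => c11x48x2
  | 3, _ => c11x48x3
  | 4, _ => c11x48x4
  | _ + 5, h => absurd h (by omega)

theorem s11x49 : ∀ l, l < 1 → run3 10 [] 61 11 87 49 1 l = true
  | 0, _ => c11x49x0
  | _ + 1, h => absurd h (by omega)

theorem s11x50 : ∀ l, l < 1 → run3 10 [] 61 11 87 50 1 l = true
  | 0, _ => c11x50x0
  | _ + 1, h => absurd h (by omega)

theorem s11x51 : ∀ l, l < 1 → run3 10 [] 61 11 87 51 1 l = true
  | 0, _ => c11x51x0
  | _ + 1, h => absurd h (by omega)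

theorem s11x52 : ∀ l, l < 1 → run3 10 [] 61 11 87 52 1 l = true
  | 0, _ => c11x52x0
  | _ + 1, h => absurd h (by omega)

theorem s11x53 : ∀ l, l < 1 → run3 10 [] 61 11 87 53 1 l = true
  | 0, _ => c11x53x0
  | _ + 1, h => absurd h (by omega)

theorem s11x54 : ∀ l, l < 1 → run3 10 [] 61 11 87 54 1 l = true
  | 0, _ => c11x54x0
  | _ + 1, h => absurd h (by omega)

theorem s11x55 : ∀ l, l < 3 → run3 10 [] 61 11 87 55 3 l = true
  | 0, _ => c11x55x0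
  | 1, _ => c11x55x1
  | 2, _ => c11x55x2
  | _ + 3, h => absurd h (by omega)

theorem s11x56 : ∀ l, l < 1 → run3 10 [] 61 11 87 56 1 l = true
  | 0, _ => c11x56x0
  | _ + 1, h => absurd h (by omega)

theorem s11x57 : ∀ l, l < 1 → run3 10 [] 61 11 87 57 1 l = true
  | 0, _ => c11x57x0
  | _ + 1, h => absurd h (by omega)

theorem s11x58 : ∀ l, l < 1 → run3 10 [] 61 11 87 58 1 l = true
  | 0, _ => c11x58x0
  | _ + 1, h => absurd h (by omega)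

theorem s11x59 : ∀ l, l < 1 → run3 10 [] 61 11 87 59 1 l = true
  | 0, _ => c11x59x0
  | _ + 1, h => absurd h (by omega)

theorem s11x60 : ∀ l, l < 1 → run3 10 [] 61 11 87 60 1 l = true
  | 0, _ => c11x60x0
  | _ + 1, h => absurd h (by omega)

theorem s11x61 : ∀ l, l < 1 → run3 10 [] 61 11 87 61 1 l = true
  | 0, _ => c11x61x0
  | _ + 1, h => absurd h (by omega)

theorem s11x62 : ∀ l, l < 1 → run3 10 [] 61 11 87 62 1 l = true
  | 0, _ => c11x62x0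
  | _ + 1, h => absurd h (by omega)

theorem s11x63 : ∀ l, l < 1 → run3 10 [] 61 11 87 63 1 l = true
  | 0, _ => c11x63x0
  | _ + 1, h => absurd h (by omega)

theorem s11x64 : ∀ l, l < 5 → run3 10 [] 61 11 87 64 5 l = true
  | 0, _ => c11x64x0
  | 1, _ => c11x64x1
  | 2, _ => c11x64x2
  | 3, _ => c11x64x3
  | 4, _ => c11x64x4
  | _ + 5, h => absurd h (by omega)

theorem s11x65 : ∀ l, l < 1 → run3 10 [] 61 11 87 65 1 l = true
  | 0, _ => c11x65x0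
  | _ + 1, h => absurd h (by omega)

theorem s11x66 : ∀ l, l < 3 → run3 10 [] 61 11 87 66 3 l = true
  | 0, _ => c11x66x0
  | 1, _ => c11x66x1
  | 2, _ => c11x66x2
  | _ + 3, h => absurd h (by omega)

theorem s11x67 : ∀ l, l < 1 → run3 10 [] 61 11 87 67 1 l = true
  | 0, _ => c11x67x0
  | _ + 1, h => absurd h (by omega)

theorem s11x68 : ∀ l, l < 1 → run3 10 [] 61 11 87 68 1 l = true
  | 0, _ => c11x68x0
  | _ + 1, h => absurd h (by omega)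

theorem s11x69 : ∀ l, l < 1 → run3 10 [] 61 11 87 69 1 l = true
  | 0, _ => c11x69x0
  | _ + 1, h => absurd h (by omega)

theorem s11x70 : ∀ l, l < 1 → run3 10 [] 61 11 87 70 1 l = true
  | 0, _ => c11x70x0
  | _ + 1, h => absurd h (by omega)

theorem s11x71 : ∀ l, l < 1 → run3 10 [] 61 11 87 71 1 l = true
  | 0, _ => c11x71x0
  | _ + 1, h => absurd h (by omega)

theorem s11x72 : ∀ l, l < 1 → run3 10 [] 61 11 87 72 1 l = true
  | 0, _ => c11x72x0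
  | _ + 1, h => absurd h (by omega)

theorem s11x73 : ∀ l, l < 1 → run3 10 [] 61 11 87 73 1 l = true
  | 0, _ => c11x73x0
  | _ + 1, h => absurd h (by omega)

theorem s11x74 : ∀ l, l < 1 → run3 10 [] 61 11 87 74 1 l = true
  | 0, _ => c11x74x0
  | _ + 1, h => absurd h (by omega)

theorem s11x75 : ∀ l, l < 1 → run3 10 [] 61 11 87 75 1 l = true
  | 0, _ => c11x75x0
  | _ + 1, h => absurd h (by omega)

theorem s11x76 : ∀ l, l < 1 → run3 10 [] 61 11 87 76 1 l = true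
  | 0, _ => c11x76x0
  | _ + 1, h => absurd h (by omega)

theorem s11x77 : ∀ l, l < 1 → run3 10 [] 61 11 87 77 1 l = true
  | 0, _ => c11x77x0
  | _ + 1, h => absurd h (by omega)

theorem s11x78 : ∀ l, l < 1 → run3 10 [] 61 11 87 78 1 l = true
  | 0, _ => c11x78x0
  | _ + 1, h => absurd h (by omega)

theorem s11x79 : ∀ l, l < 1 → run3 10 [] 61 11 87 79 1 l = true
  | 0, _ => c11x79x0
  | _ + 1, h => absurd h (by omega)

theorem s11x80 : ∀ l, l < 1 → run3 10 [] 61 11 87 80 1 l = true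
  | 0, _ => c11x80x0
  | _ + 1, h => absurd h (by omega)

theorem s11x81 : ∀ l, l < 1 → run3 10 [] 61 11 87 81 1 l = true
  | 0, _ => c11x81x0
  | _ + 1, h => absurd h (by omega)

theorem s11x82 : ∀ l, l < 1 → run3 10 [] 61 11 87 82 1 l = true
  | 0, _ => c11x82x0
  | _ + 1, h => absurd h (by omega)

theorem s11x83 : ∀ l, l < 1 → run3 10 [] 61 11 87 83 1 l = true
  | 0, _ => c11x83x0
  | _ + 1, h => absurd h (by omega)

theorem s11x84 : ∀ l, l < 1 → run3 10 [] 61 11 87 84 1 l = true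
  | 0, _ => c11x84x0
  | _ + 1, h => absurd h (by omega)

theorem s11x85 : ∀ l, l < 1 → run3 10 [] 61 11 87 85 1 l = true
  | 0, _ => c11x85x0
  | _ + 1, h => absurd h (by omega)

theorem s11x86 : ∀ l, l < 1 → run3 10 [] 61 11 87 86 1 l = true
  | 0, _ => c11x86x0
  | _ + 1, h => absurd h (by omega)

theorem r11 : ∀ j, j < 87 → ∃ n3, 0 < n3 ∧ ∀ l, l < n3 → run3 10 [] 61 11 87 j n3 l = true
  | 0, _ => ⟨1, by decide, s11x0⟩
  | 1, _ => ⟨1, by decide, s11x1⟩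
  | 2, _ => ⟨1, by decide, s11x2⟩
  | 3, _ => ⟨1, by decide, s11x3⟩
  | 4, _ => ⟨1, by decide, s11x4⟩
  | 5, _ => ⟨1, by decide, s11x5⟩
  | 6, _ => ⟨1, by decide, s11x6⟩
  | 7, _ => ⟨1, by decide, s11x7⟩
  | 8, _ => ⟨1, by decide, s11x8⟩
  | 9, _ => ⟨1, by decide, s11x9⟩
  | 10, _ => ⟨1, by decide, s11x10⟩
  | 11, _ => ⟨1, by decide, s11x11⟩
  | 12, _ => ⟨5, by decide, s11x12⟩
  | 13, _ => ⟨1, by decide, s11x13⟩
  | 14, _ => ⟨1, by decide, s11x14⟩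
  | 15, _ => ⟨5, by decide, s11x15⟩
  | 16, _ => ⟨1, by decide, s11x16⟩
  | 17, _ => ⟨3, by decide, s11x17⟩
  | 18, _ => ⟨5, by decide, s11x18⟩
  | 19, _ => ⟨1, by decide, s11x19⟩
  | 20, _ => ⟨3, by decide, s11x20⟩
  | 21, _ => ⟨3, by decide, s11x21⟩
  | 22, _ => ⟨3, by decide, s11x22⟩
  | 23, _ => ⟨1, by decide, s11x23⟩
  | 24, _ => ⟨11, by decide, s11x24⟩
  | 25, _ => ⟨1, by decide, s11x25⟩
  | 26, _ => ⟨1, by decide, s11x26⟩
  | 27, _ => ⟨3, by decide, s11x27⟩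
  | 28, _ => ⟨1, by decide, s11x28⟩
  | 29, _ => ⟨1, by decide, s11x29⟩
  | 30, _ => ⟨5, by decide, s11x30⟩
  | 31, _ => ⟨1, by decide, s11x31⟩
  | 32, _ => ⟨1, by decide, s11x32⟩
  | 33, _ => ⟨1, by decide, s11x33⟩
  | 34, _ => ⟨3, by decide, s11x34⟩
  | 35, _ => ⟨3, by decide, s11x35⟩
  | 36, _ => ⟨3, by decide, s11x36⟩
  | 37, _ => ⟨1, by decide, s11x37⟩
  | 38, _ => ⟨1, by decide, s11x38⟩
  | 39, _ => ⟨3, by decide, s11x39⟩
  | 40, _ => ⟨1, by decide, s11x40⟩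
  | 41, _ => ⟨1, by decide, s11x41⟩
  | 42, _ => ⟨5, by decide, s11x42⟩
  | 43, _ => ⟨1, by decide, s11x43⟩
  | 44, _ => ⟨5, by decide, s11x44⟩
  | 45, _ => ⟨3, by decide, s11x45⟩
  | 46, _ => ⟨1, by decide, s11x46⟩
  | 47, _ => ⟨1, by decide, s11x47⟩
  | 48, _ => ⟨5, by decide, s11x48⟩
  | 49, _ => ⟨1, by decide, s11x49⟩
  | 50, _ => ⟨1, by decide, s11x50⟩
  | 51, _ => ⟨1, by decide, s11x51⟩
  | 52, _ => ⟨1, by decide, s11x52⟩
  | 53, _ => ⟨1, by decide, s11x53⟩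
  | 54, _ => ⟨1, by decide, s11x54⟩
  | 55, _ => ⟨3, by decide, s11x55⟩
  | 56, _ => ⟨1, by decide, s11x56⟩
  | 57, _ => ⟨1, by decide, s11x57⟩
  | 58, _ => ⟨1, by decide, s11x58⟩
  | 59, _ => ⟨1, by decide, s11x59⟩
  | 60, _ => ⟨1, by decide, s11x60⟩
  | 61, _ => ⟨1, by decide, s11x61⟩
  | 62, _ => ⟨1, by decide, s11x62⟩
  | 63, _ => ⟨1, by decide, s11x63⟩
  | 64, _ => ⟨5, by decide, s11x64⟩
  | 65, _ => ⟨1, by decide, s11x65⟩
  | 66, _ => ⟨3, by decide, s11x66⟩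
  | 67, _ => ⟨1, by decide, s11x67⟩
  | 68, _ => ⟨1, by decide, s11x68⟩
  | 69, _ => ⟨1, by decide, s11x69⟩
  | 70, _ => ⟨1, by decide, s11x70⟩
  | 71, _ => ⟨1, by decide, s11x71⟩
  | 72, _ => ⟨1, by decide, s11x72⟩
  | 73, _ => ⟨1, by decide, s11x73⟩
  | 74, _ => ⟨1, by decide, s11x74⟩
  | 75, _ => ⟨1, by decide, s11x75⟩
  | 76, _ => ⟨1, by decide, s11x76⟩
  | 77, _ => ⟨1, by decide, s11x77⟩
  | 78, _ => ⟨1, by decide, s11x78⟩
  | 79, _ => ⟨1, by decide, s11x79⟩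
  | 80, _ => ⟨1, by decide, s11x80⟩
  | 81, _ => ⟨1, by decide, s11x81⟩
  | 82, _ => ⟨1, by decide, s11x82⟩
  | 83, _ => ⟨1, by decide, s11x83⟩
  | 84, _ => ⟨1, by decide, s11x84⟩
  | 85, _ => ⟨1, by decide, s11x85⟩
  | 86, _ => ⟨1, by decide, s11x86⟩
  | _ + 87, h => absurd h (by omega)

theorem s12x0 : ∀ l, l < 1 → run3 10 [] 61 12 109 0 1 l = true
  | 0, _ => c12x0x0
  | _ + 1, h => absurd h (by omega)

theorem s12x1 : ∀ l, l < 1 → run3 10 [] 61 12 109 1 1 l = true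
  | 0, _ => c12x1x0
  | _ + 1, h => absurd h (by omega)

theorem s12x2 : ∀ l, l < 1 → run3 10 [] 61 12 109 2 1 l = true
  | 0, _ => c12x2x0
  | _ + 1, h => absurd h (by omega)

theorem s12x3 : ∀ l, l < 1 → run3 10 [] 61 12 109 3 1 l = true
  | 0, _ => c12x3x0
  | _ + 1, h => absurd h (by omega)

theorem s12x4 : ∀ l, l < 5 → run3 10 [] 61 12 109 4 5 l = true
  | 0, _ => c12x4x0
  | 1, _ => c12x4x1
  | 2, _ => c12x4x2
  | 3, _ => c12x4x3
  | 4, _ => c12x4x4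
  | _ + 5, h => absurd h (by omega)

theorem s12x5 : ∀ l, l < 3 → run3 10 [] 61 12 109 5 3 l = true
  | 0, _ => c12x5x0
  | 1, _ => c12x5x1
  | 2, _ => c12x5x2
  | _ + 3, h => absurd h (by omega)

theorem s12x6 : ∀ l, l < 1 → run3 10 [] 61 12 109 6 1 l = true
  | 0, _ => c12x6x0
  | _ + 1, h => absurd h (by omega)

theorem s12x7 : ∀ l, l < 1 → run3 10 [] 61 12 109 7 1 l = true
  | 0, _ => c12x7x0
  | _ + 1, h => absurd h (by omega)

theorem s12x8 : ∀ l, l < 1 → run3 10 [] 61 12 109 8 1 l = true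
  | 0, _ => c12x8x0
  | _ + 1, h => absurd h (by omega)

theorem s12x9 : ∀ l, l < 3 → run3 10 [] 61 12 109 9 3 l = true
  | 0, _ => c12x9x0
  | 1, _ => c12x9x1
  | 2, _ => c12x9x2
  | _ + 3, h => absurd h (by omega)

theorem s12x10 : ∀ l, l < 1 → run3 10 [] 61 12 109 10 1 l = true
  | 0, _ => c12x10x0
  | _ + 1, h => absurd h (by omega)

theorem s12x11 : ∀ l, l < 1 → run3 10 [] 61 12 109 11 1 l = true
  | 0, _ => c12x11x0
  | _ + 1, h => absurd h (by omega)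

theorem s12x12 : ∀ l, l < 5 → run3 10 [] 61 12 109 12 5 l = true
  | 0, _ => c12x12x0
  | 1, _ => c12x12x1
  | 2, _ => c12x12x2
  | 3, _ => c12x12x3
  | 4, _ => c12x12x4
  | _ + 5, h => absurd h (by omega)

theorem s12x13 : ∀ l, l < 1 → run3 10 [] 61 12 109 13 1 l = true
  | 0, _ => c12x13x0
  | _ + 1, h => absurd h (by omega)

theorem s12x14 : ∀ l, l < 1 → run3 10 [] 61 12 109 14 1 l = true
  | 0, _ => c12x14x0
  | _ + 1, h => absurd h (by omega)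

theorem s12x15 : ∀ l, l < 1 → run3 10 [] 61 12 109 15 1 l = true
  | 0, _ => c12x15x0
  | _ + 1, h => absurd h (by omega)

theorem s12x16 : ∀ l, l < 1 → run3 10 [] 61 12 109 16 1 l = true
  | 0, _ => c12x16x0
  | _ + 1, h => absurd h (by omega)

theorem s12x17 : ∀ l, l < 3 → run3 10 [] 61 12 109 17 3 l = true
  | 0, _ => c12x17x0
  | 1, _ => c12x17x1
  | 2, _ => c12x17x2
  | _ + 3, h => absurd h (by omega)

theorem s12x18 : ∀ l, l < 3 → run3 10 [] 61 12 109 18 3 l = true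
  | 0, _ => c12x18x0
  | 1, _ => c12x18x1
  | 2, _ => c12x18x2
  | _ + 3, h => absurd h (by omega)

theorem s12x19 : ∀ l, l < 1 → run3 10 [] 61 12 109 19 1 l = true
  | 0, _ => c12x19x0
  | _ + 1, h => absurd h (by omega)

theorem s12x20 : ∀ l, l < 5 → run3 10 [] 61 12 109 20 5 l = true
  | 0, _ => c12x20x0
  | 1, _ => c12x20x1
  | 2, _ => c12x20x2
  | 3, _ => c12x20x3
  | 4, _ => c12x20x4
  | _ + 5, h => absurd h (by omega)

theorem s12x21 : ∀ l, l < 1 → run3 10 [] 61 12 109 21 1 l = true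
  | 0, _ => c12x21x0
  | _ + 1, h => absurd h (by omega)

theorem s12x22 : ∀ l, l < 1 → run3 10 [] 61 12 109 22 1 l = true
  | 0, _ => c12x22x0
  | _ + 1, h => absurd h (by omega)

theorem s12x23 : ∀ l, l < 3 → run3 10 [] 61 12 109 23 3 l = true
  | 0, _ => c12x23x0
  | 1, _ => c12x23x1
  | 2, _ => c12x23x2
  | _ + 3, h => absurd h (by omega)

theorem s12x24 : ∀ l, l < 3 → run3 10 [] 61 12 109 24 3 l = true
  | 0, _ => c12x24x0
  | 1, _ => c12x24x1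
  | 2, _ => c12x24x2
  | _ + 3, h => absurd h (by omega)

theorem s12x25 : ∀ l, l < 3 → run3 10 [] 61 12 109 25 3 l = true
  | 0, _ => c12x25x0
  | 1, _ => c12x25x1
  | 2, _ => c12x25x2
  | _ + 3, h => absurd h (by omega)

theorem s12x26 : ∀ l, l < 1 → run3 10 [] 61 12 109 26 1 l = true
  | 0, _ => c12x26x0
  | _ + 1, h => absurd h (by omega)

theorem s12x27 : ∀ l, l < 1 → run3 10 [] 61 12 109 27 1 l = true
  | 0, _ => c12x27x0
  | _ + 1, h => absurd h (by omega)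

theorem s12x28 : ∀ l, l < 3 → run3 10 [] 61 12 109 28 3 l = true
  | 0, _ => c12x28x0
  | 1, _ => c12x28x1
  | 2, _ => c12x28x2
  | _ + 3, h => absurd h (by omega)

theorem s12x29 : ∀ l, l < 1 → run3 10 [] 61 12 109 29 1 l = true
  | 0, _ => c12x29x0
  | _ + 1, h => absurd h (by omega)

theorem s12x30 : ∀ l, l < 1 → run3 10 [] 61 12 109 30 1 l = true
  | 0, _ => c12x30x0
  | _ + 1, h => absurd h (by omega)

theorem s12x31 : ∀ l, l < 1 → run3 10 [] 61 12 109 31 1 l = true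
  | 0, _ => c12x31x0
  | _ + 1, h => absurd h (by omega)

theorem s12x32 : ∀ l, l < 1 → run3 10 [] 61 12 109 32 1 l = true
  | 0, _ => c12x32x0
  | _ + 1, h => absurd h (by omega)

theorem s12x33 : ∀ l, l < 1 → run3 10 [] 61 12 109 33 1 l = true
  | 0, _ => c12x33x0
  | _ + 1, h => absurd h (by omega)

theorem s12x34 : ∀ l, l < 1 → run3 10 [] 61 12 109 34 1 l = true
  | 0, _ => c12x34x0
  | _ + 1, h => absurd h (by omega)

theorem s12x35 : ∀ l, l < 1 → run3 10 [] 61 12 109 35 1 l = true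
  | 0, _ => c12x35x0
  | _ + 1, h => absurd h (by omega)

theorem s12x36 : ∀ l, l < 1 → run3 10 [] 61 12 109 36 1 l = true
  | 0, _ => c12x36x0
  | _ + 1, h => absurd h (by omega)

theorem s12x37 : ∀ l, l < 3 → run3 10 [] 61 12 109 37 3 l = true
  | 0, _ => c12x37x0
  | 1, _ => c12x37x1
  | 2, _ => c12x37x2
  | _ + 3, h => absurd h (by omega)

theorem s12x38 : ∀ l, l < 5 → run3 10 [] 61 12 109 38 5 l = true
  | 0, _ => c12x38x0
  | 1, _ => c12x38x1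
  | 2, _ => c12x38x2
  | 3, _ => c12x38x3
  | 4, _ => c12x38x4
  | _ + 5, h => absurd h (by omega)

theorem s12x39 : ∀ l, l < 3 → run3 10 [] 61 12 109 39 3 l = true
  | 0, _ => c12x39x0
  | 1, _ => c12x39x1
  | 2, _ => c12x39x2
  | _ + 3, h => absurd h (by omega)

theorem s12x40 : ∀ l, l < 3 → run3 10 [] 61 12 109 40 3 l = true
  | 0, _ => c12x40x0
  | 1, _ => c12x40x1
  | 2, _ => c12x40x2
  | _ + 3, h => absurd h (by omega)

theorem s12x41 : ∀ l, l < 3 → run3 10 [] 61 12 109 41 3 l = true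
  | 0, _ => c12x41x0
  | 1, _ => c12x41x1
  | 2, _ => c12x41x2
  | _ + 3, h => absurd h (by omega)

theorem s12x42 : ∀ l, l < 1 → run3 10 [] 61 12 109 42 1 l = true
  | 0, _ => c12x42x0
  | _ + 1, h => absurd h (by omega)

theorem s12x43 : ∀ l, l < 3 → run3 10 [] 61 12 109 43 3 l = true
  | 0, _ => c12x43x0
  | 1, _ => c12x43x1
  | 2, _ => c12x43x2
  | _ + 3, h => absurd h (by omega)

theorem s12x44 : ∀ l, l < 5 → run3 10 [] 61 12 109 44 5 l = true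
  | 0, _ => c12x44x0
  | 1, _ => c12x44x1
  | 2, _ => c12x44x2
  | 3, _ => c12x44x3
  | 4, _ => c12x44x4
  | _ + 5, h => absurd h (by omega)

theorem s12x45 : ∀ l, l < 1 → run3 10 [] 61 12 109 45 1 l = true
  | 0, _ => c12x45x0
  | _ + 1, h => absurd h (by omega)

theorem s12x46 : ∀ l, l < 1 → run3 10 [] 61 12 109 46 1 l = true
  | 0, _ => c12x46x0
  | _ + 1, h => absurd h (by omega)

theorem s12x47 : ∀ l, l < 1 → run3 10 [] 61 12 109 47 1 l = true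
  | 0, _ => c12x47x0
  | _ + 1, h => absurd h (by omega)

theorem s12x48 : ∀ l, l < 1 → run3 10 [] 61 12 109 48 1 l = true
  | 0, _ => c12x48x0
  | _ + 1, h => absurd h (by omega)

theorem s12x49 : ∀ l, l < 3 → run3 10 [] 61 12 109 49 3 l = true
  | 0, _ => c12x49x0
  | 1, _ => c12x49x1
  | 2, _ => c12x49x2
  | _ + 3, h => absurd h (by omega)

theorem s12x50 : ∀ l, l < 1 → run3 10 [] 61 12 109 50 1 l = true
  | 0, _ => c12x50x0
  | _ + 1, h => absurd h (by omega)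

theorem s12x51 : ∀ l, l < 1 → run3 10 [] 61 12 109 51 1 l = true
  | 0, _ => c12x51x0
  | _ + 1, h => absurd h (by omega)

theorem s12x52 : ∀ l, l < 1 → run3 10 [] 61 12 109 52 1 l = true
  | 0, _ => c12x52x0
  | _ + 1, h => absurd h (by omega)

theorem s12x53 : ∀ l, l < 1 → run3 10 [] 61 12 109 53 1 l = true
  | 0, _ => c12x53x0
  | _ + 1, h => absurd h (by omega)

theorem s12x54 : ∀ l, l < 1 → run3 10 [] 61 12 109 54 1 l = true
  | 0, _ => c12x54x0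
  | _ + 1, h => absurd h (by omega)

theorem s12x55 : ∀ l, l < 1 → run3 10 [] 61 12 109 55 1 l = true
  | 0, _ => c12x55x0
  | _ + 1, h => absurd h (by omega)

theorem s12x56 : ∀ l, l < 1 → run3 10 [] 61 12 109 56 1 l = true
  | 0, _ => c12x56x0
  | _ + 1, h => absurd h (by omega)

theorem s12x57 : ∀ l, l < 3 → run3 10 [] 61 12 109 57 3 l = true
  | 0, _ => c12x57x0
  | 1, _ => c12x57x1
  | 2, _ => c12x57x2
  | _ + 3, h => absurd h (by omega)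

theorem s12x58 : ∀ l, l < 1 → run3 10 [] 61 12 109 58 1 l = true
  | 0, _ => c12x58x0
  | _ + 1, h => absurd h (by omega)

theorem s12x59 : ∀ l, l < 1 → run3 10 [] 61 12 109 59 1 l = true
  | 0, _ => c12x59x0
  | _ + 1, h => absurd h (by omega)

theorem s12x60 : ∀ l, l < 1 → run3 10 [] 61 12 109 60 1 l = true
  | 0, _ => c12x60x0
  | _ + 1, h => absurd h (by omega)

theorem s12x61 : ∀ l, l < 1 → run3 10 [] 61 12 109 61 1 l = true
  | 0, _ => c12x61x0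
  | _ + 1, h => absurd h (by omega)

theorem s12x62 : ∀ l, l < 1 → run3 10 [] 61 12 109 62 1 l = true
  | 0, _ => c12x62x0
  | _ + 1, h => absurd h (by omega)

theorem s12x63 : ∀ l, l < 1 → run3 10 [] 61 12 109 63 1 l = true
  | 0, _ => c12x63x0
  | _ + 1, h => absurd h (by omega)

theorem s12x64 : ∀ l, l < 1 → run3 10 [] 61 12 109 64 1 l = true
  | 0, _ => c12x64x0
  | _ + 1, h => absurd h (by omega)

theorem s12x65 : ∀ l, l < 1 → run3 10 [] 61 12 109 65 1 l = true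
  | 0, _ => c12x65x0
  | _ + 1, h => absurd h (by omega)

theorem s12x66 : ∀ l, l < 1 → run3 10 [] 61 12 109 66 1 l = true
  | 0, _ => c12x66x0
  | _ + 1, h => absurd h (by omega)

theorem s12x67 : ∀ l, l < 3 → run3 10 [] 61 12 109 67 3 l = true
  | 0, _ => c12x67x0
  | 1, _ => c12x67x1
  | 2, _ => c12x67x2
  | _ + 3, h => absurd h (by omega)

theorem s12x68 : ∀ l, l < 1 → run3 10 [] 61 12 109 68 1 l = true
  | 0, _ => c12x68x0
  | _ + 1, h => absurd h (by omega)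

theorem s12x69 : ∀ l, l < 3 → run3 10 [] 61 12 109 69 3 l = true
  | 0, _ => c12x69x0
  | 1, _ => c12x69x1
  | 2, _ => c12x69x2
  | _ + 3, h => absurd h (by omega)

theorem s12x70 : ∀ l, l < 1 → run3 10 [] 61 12 109 70 1 l = true
  | 0, _ => c12x70x0
  | _ + 1, h => absurd h (by omega)

theorem s12x71 : ∀ l, l < 1 → run3 10 [] 61 12 109 71 1 l = true
  | 0, _ => c12x71x0
  | _ + 1, h => absurd h (by omega)

theorem s12x72 : ∀ l, l < 3 → run3 10 [] 61 12 109 72 3 l = true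
  | 0, _ => c12x72x0
  | 1, _ => c12x72x1
  | 2, _ => c12x72x2
  | _ + 3, h => absurd h (by omega)

theorem s12x73 : ∀ l, l < 1 → run3 10 [] 61 12 109 73 1 l = true
  | 0, _ => c12x73x0
  | _ + 1, h => absurd h (by omega)

theorem s12x74 : ∀ l, l < 1 → run3 10 [] 61 12 109 74 1 l = true
  | 0, _ => c12x74x0
  | _ + 1, h => absurd h (by omega)

theorem s12x75 : ∀ l, l < 3 → run3 10 [] 61 12 109 75 3 l = true
  | 0, _ => c12x75x0
  | 1, _ => c12x75x1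
  | 2, _ => c12x75x2
  | _ + 3, h => absurd h (by omega)

theorem s12x76 : ∀ l, l < 1 → run3 10 [] 61 12 109 76 1 l = true
  | 0, _ => c12x76x0
  | _ + 1, h => absurd h (by omega)

theorem s12x77 : ∀ l, l < 1 → run3 10 [] 61 12 109 77 1 l = true
  | 0, _ => c12x77x0
  | _ + 1, h => absurd h (by omega)

theorem s12x78 : ∀ l, l < 1 → run3 10 [] 61 12 109 78 1 l = true
  | 0, _ => c12x78x0
  | _ + 1, h => absurd h (by omega)

theorem s12x79 : ∀ l, l < 1 → run3 10 [] 61 12 109 79 1 l = true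
  | 0, _ => c12x79x0
  | _ + 1, h => absurd h (by omega)

theorem s12x80 : ∀ l, l < 1 → run3 10 [] 61 12 109 80 1 l = true
  | 0, _ => c12x80x0
  | _ + 1, h => absurd h (by omega)

theorem s12x81 : ∀ l, l < 1 → run3 10 [] 61 12 109 81 1 l = true
  | 0, _ => c12x81x0
  | _ + 1, h => absurd h (by omega)

theorem s12x82 : ∀ l, l < 1 → run3 10 [] 61 12 109 82 1 l = true
  | 0, _ => c12x82x0
  | _ + 1, h => absurd h (by omega)

theorem s12x83 : ∀ l, l < 1 → run3 10 [] 61 12 109 83 1 l = true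
  | 0, _ => c12x83x0
  | _ + 1, h => absurd h (by omega)

theorem s12x84 : ∀ l, l < 1 → run3 10 [] 61 12 109 84 1 l = true
  | 0, _ => c12x84x0
  | _ + 1, h => absurd h (by omega)

theorem s12x85 : ∀ l, l < 1 → run3 10 [] 61 12 109 85 1 l = true
  | 0, _ => c12x85x0
  | _ + 1, h => absurd h (by omega)

theorem s12x86 : ∀ l, l < 1 → run3 10 [] 61 12 109 86 1 l = true
  | 0, _ => c12x86x0
  | _ + 1, h => absurd h (by omega)

theorem s12x87 : ∀ l, l < 1 → run3 10 [] 61 12 109 87 1 l = true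
  | 0, _ => c12x87x0
  | _ + 1, h => absurd h (by omega)

theorem s12x88 : ∀ l, l < 3 → run3 10 [] 61 12 109 88 3 l = true
  | 0, _ => c12x88x0
  | 1, _ => c12x88x1
  | 2, _ => c12x88x2
  | _ + 3, h => absurd h (by omega)

theorem s12x89 : ∀ l, l < 1 → run3 10 [] 61 12 109 89 1 l = true
  | 0, _ => c12x89x0
  | _ + 1, h => absurd h (by omega)

theorem s12x90 : ∀ l, l < 1 → run3 10 [] 61 12 109 90 1 l = true
  | 0, _ => c12x90x0
  | _ + 1, h => absurd h (by omega)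

theorem s12x91 : ∀ l, l < 3 → run3 10 [] 61 12 109 91 3 l = true
  | 0, _ => c12x91x0
  | 1, _ => c12x91x1
  | 2, _ => c12x91x2
  | _ + 3, h => absurd h (by omega)

theorem s12x92 : ∀ l, l < 1 → run3 10 [] 61 12 109 92 1 l = true
  | 0, _ => c12x92x0
  | _ + 1, h => absurd h (by omega)

theorem s12x93 : ∀ l, l < 1 → run3 10 [] 61 12 109 93 1 l = true
  | 0, _ => c12x93x0
  | _ + 1, h => absurd h (by omega)

theorem s12x94 : ∀ l, l < 1 → run3 10 [] 61 12 109 94 1 l = true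
  | 0, _ => c12x94x0
  | _ + 1, h => absurd h (by omega)

theorem s12x95 : ∀ l, l < 1 → run3 10 [] 61 12 109 95 1 l = true
  | 0, _ => c12x95x0
  | _ + 1, h => absurd h (by omega)

theorem s12x96 : ∀ l, l < 1 → run3 10 [] 61 12 109 96 1 l = true
  | 0, _ => c12x96x0
  | _ + 1, h => absurd h (by omega)

theorem s12x97 : ∀ l, l < 1 → run3 10 [] 61 12 109 97 1 l = true
  | 0, _ => c12x97x0
  | _ + 1, h => absurd h (by omega)

theorem s12x98 : ∀ l, l < 1 → run3 10 [] 61 12 109 98 1 l = true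
  | 0, _ => c12x98x0
  | _ + 1, h => absurd h (by omega)

theorem s12x99 : ∀ l, l < 1 → run3 10 [] 61 12 109 99 1 l = true
  | 0, _ => c12x99x0
  | _ + 1, h => absurd h (by omega)

theorem s12x100 : ∀ l, l < 1 → run3 10 [] 61 12 109 100 1 l = true
  | 0, _ => c12x100x0
  | _ + 1, h => absurd h (by omega)

theorem s12x101 : ∀ l, l < 1 → run3 10 [] 61 12 109 101 1 l = true
  | 0, _ => c12x101x0
  | _ + 1, h => absurd h (by omega)

theorem s12x102 : ∀ l, l < 1 → run3 10 [] 61 12 109 102 1 l = true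
  | 0, _ => c12x102x0
  | _ + 1, h => absurd h (by omega)

theorem s12x103 : ∀ l, l < 1 → run3 10 [] 61 12 109 103 1 l = true
  | 0, _ => c12x103x0
  | _ + 1, h => absurd h (by omega)

theorem s12x104 : ∀ l, l < 1 → run3 10 [] 61 12 109 104 1 l = true
  | 0, _ => c12x104x0
  | _ + 1, h => absurd h (by omega)

theorem s12x105 : ∀ l, l < 1 → run3 10 [] 61 12 109 105 1 l = true
  | 0, _ => c12x105x0
  | _ + 1, h => absurd h (by omega)

theorem s12x106 : ∀ l, l < 1 → run3 10 [] 61 12 109 106 1 l = true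
  | 0, _ => c12x106x0
  | _ + 1, h => absurd h (by omega)

theorem s12x107 : ∀ l, l < 1 → run3 10 [] 61 12 109 107 1 l = true
  | 0, _ => c12x107x0
  | _ + 1, h => absurd h (by omega)

theorem s12x108 : ∀ l, l < 1 → run3 10 [] 61 12 109 108 1 l = true
  | 0, _ => c12x108x0
  | _ + 1, h => absurd h (by omega)

theorem r12 : ∀ j, j < 109 → ∃ n3, 0 < n3 ∧ ∀ l, l < n3 → run3 10 [] 61 12 109 j n3 l = true
  | 0, _ => ⟨1, by decide, s12x0⟩
  | 1, _ => ⟨1, by decide, s12x1⟩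
  | 2, _ => ⟨1, by decide, s12x2⟩
  | 3, _ => ⟨1, by decide, s12x3⟩
  | 4, _ => ⟨5, by decide, s12x4⟩
  | 5, _ => ⟨3, by decide, s12x5⟩
  | 6, _ => ⟨1, by decide, s12x6⟩
  | 7, _ => ⟨1, by decide, s12x7⟩
  | 8, _ => ⟨1, by decide, s12x8⟩
  | 9, _ => ⟨3, by decide, s12x9⟩
  | 10, _ => ⟨1, by decide, s12x10⟩
  | 11, _ => ⟨1, by decide, s12x11⟩
  | 12, _ => ⟨5, by decide, s12x12⟩
  | 13, _ => ⟨1, by decide, s12x13⟩
  | 14, _ => ⟨1, by decide, s12x14⟩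
  | 15, _ => ⟨1, by decide, s12x15⟩
  | 16, _ => ⟨1, by decide, s12x16⟩
  | 17, _ => ⟨3, by decide, s12x17⟩
  | 18, _ => ⟨3, by decide, s12x18⟩
  | 19, _ => ⟨1, by decide, s12x19⟩
  | 20, _ => ⟨5, by decide, s12x20⟩
  | 21, _ => ⟨1, by decide, s12x21⟩
  | 22, _ => ⟨1, by decide, s12x22⟩
  | 23, _ => ⟨3, by decide, s12x23⟩
  | 24, _ => ⟨3, by decide, s12x24⟩
  | 25, _ => ⟨3, by decide, s12x25⟩
  | 26, _ => ⟨1, by decide, s12x26⟩
  | 27, _ => ⟨1, by decide, s12x27⟩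
  | 28, _ => ⟨3, by decide, s12x28⟩
  | 29, _ => ⟨1, by decide, s12x29⟩
  | 30, _ => ⟨1, by decide, s12x30⟩
  | 31, _ => ⟨1, by decide, s12x31⟩
  | 32, _ => ⟨1, by decide, s12x32⟩
  | 33, _ => ⟨1, by decide, s12x33⟩
  | 34, _ => ⟨1, by decide, s12x34⟩
  | 35, _ => ⟨1, by decide, s12x35⟩
  | 36, _ => ⟨1, by decide, s12x36⟩
  | 37, _ => ⟨3, by decide, s12x37⟩
  | 38, _ => ⟨5, by decide, s12x38⟩
  | 39, _ => ⟨3, by decide, s12x39⟩
  | 40, _ => ⟨3, by decide, s12x40⟩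
  | 41, _ => ⟨3, by decide, s12x41⟩
  | 42, _ => ⟨1, by decide, s12x42⟩
  | 43, _ => ⟨3, by decide, s12x43⟩
  | 44, _ => ⟨5, by decide, s12x44⟩
  | 45, _ => ⟨1, by decide, s12x45⟩
  | 46, _ => ⟨1, by decide, s12x46⟩
  | 47, _ => ⟨1, by decide, s12x47⟩
  | 48, _ => ⟨1, by decide, s12x48⟩
  | 49, _ => ⟨3, by decide, s12x49⟩
  | 50, _ => ⟨1, by decide, s12x50⟩
  | 51, _ => ⟨1, by decide, s12x51⟩
  | 52, _ => ⟨1, by decide, s12x52⟩
  | 53, _ => ⟨1, by decide, s12x53⟩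
  | 54, _ => ⟨1, by decide, s12x54⟩
  | 55, _ => ⟨1, by decide, s12x55⟩
  | 56, _ => ⟨1, by decide, s12x56⟩
  | 57, _ => ⟨3, by decide, s12x57⟩
  | 58, _ => ⟨1, by decide, s12x58⟩
  | 59, _ => ⟨1, by decide, s12x59⟩
  | 60, _ => ⟨1, by decide, s12x60⟩
  | 61, _ => ⟨1, by decide, s12x61⟩
  | 62, _ => ⟨1, by decide, s12x62⟩
  | 63, _ => ⟨1, by decide, s12x63⟩
  | 64, _ => ⟨1, by decide, s12x64⟩
  | 65, _ => ⟨1, by decide, s12x65⟩
  | 66, _ => ⟨1, by decide, s12x66⟩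
  | 67, _ => ⟨3, by decide, s12x67⟩
  | 68, _ => ⟨1, by decide, s12x68⟩
  | 69, _ => ⟨3, by decide, s12x69⟩
  | 70, _ => ⟨1, by decide, s12x70⟩
  | 71, _ => ⟨1, by decide, s12x71⟩
  | 72, _ => ⟨3, by decide, s12x72⟩
  | 73, _ => ⟨1, by decide, s12x73⟩
  | 74, _ => ⟨1, by decide, s12x74⟩
  | 75, _ => ⟨3, by decide, s12x75⟩
  | 76, _ => ⟨1, by decide, s12x76⟩
  | 77, _ => ⟨1, by decide, s12x77⟩
  | 78, _ => ⟨1, by decide, s12x78⟩
  | 79, _ => ⟨1, by decide, s12x79⟩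
  | 80, _ => ⟨1, by decide, s12x80⟩
  | 81, _ => ⟨1, by decide, s12x81⟩
  | 82, _ => ⟨1, by decide, s12x82⟩
  | 83, _ => ⟨1, by decide, s12x83⟩
  | 84, _ => ⟨1, by decide, s12x84⟩
  | 85, _ => ⟨1, by decide, s12x85⟩
  | 86, _ => ⟨1, by decide, s12x86⟩
  | 87, _ => ⟨1, by decide, s12x87⟩
  | 88, _ => ⟨3, by decide, s12x88⟩
  | 89, _ => ⟨1, by decide, s12x89⟩
  | 90, _ => ⟨1, by decide, s12x90⟩
  | 91, _ => ⟨3, by decide, s12x91⟩
  | 92, _ => ⟨1, by decide, s12x92⟩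
  | 93, _ => ⟨1, by decide, s12x93⟩
  | 94, _ => ⟨1, by decide, s12x94⟩
  | 95, _ => ⟨1, by decide, s12x95⟩
  | 96, _ => ⟨1, by decide, s12x96⟩
  | 97, _ => ⟨1, by decide, s12x97⟩
  | 98, _ => ⟨1, by decide, s12x98⟩
  | 99, _ => ⟨1, by decide, s12x99⟩
  | 100, _ => ⟨1, by decide, s12x100⟩
  | 101, _ => ⟨1, by decide, s12x101⟩
  | 102, _ => ⟨1, by decide, s12x102⟩
  | 103, _ => ⟨1, by decide, s12x103⟩
  | 104, _ => ⟨1, by decide, s12x104⟩
  | 105, _ => ⟨1, by decide, s12x105⟩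
  | 106, _ => ⟨1, by decide, s12x106⟩
  | 107, _ => ⟨1, by decide, s12x107⟩
  | 108, _ => ⟨1, by decide, s12x108⟩
  | _ + 109, h => absurd h (by omega)

theorem s13x0 : ∀ l, l < 1 → run3 10 [] 61 13 5 0 1 l = true
  | 0, _ => c13x0x0
  | _ + 1, h => absurd h (by omega)

theorem s13x1 : ∀ l, l < 1 → run3 10 [] 61 13 5 1 1 l = true
  | 0, _ => c13x1x0
  | _ + 1, h => absurd h (by omega)

theorem s13x2 : ∀ l, l < 1 → run3 10 [] 61 13 5 2 1 l = true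
  | 0, _ => c13x2x0
  | _ + 1, h => absurd h (by omega)

theorem s13x3 : ∀ l, l < 1 → run3 10 [] 61 13 5 3 1 l = true
  | 0, _ => c13x3x0
  | _ + 1, h => absurd h (by omega)

theorem s13x4 : ∀ l, l < 1 → run3 10 [] 61 13 5 4 1 l = true
  | 0, _ => c13x4x0
  | _ + 1, h => absurd h (by omega)

theorem r13 : ∀ j, j < 5 → ∃ n3, 0 < n3 ∧ ∀ l, l < n3 → run3 10 [] 61 13 5 j n3 l = true
  | 0, _ => ⟨1, by decide, s13x0⟩
  | 1, _ => ⟨1, by decide, s13x1⟩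
  | 2, _ => ⟨1, by decide, s13x2⟩
  | 3, _ => ⟨1, by decide, s13x3⟩
  | 4, _ => ⟨1, by decide, s13x4⟩
  | _ + 5, h => absurd h (by omega)

theorem s14x0 : ∀ l, l < 1 → run3 10 [] 61 14 5 0 1 l = true
  | 0, _ => c14x0x0
  | _ + 1, h => absurd h (by omega)

theorem s14x1 : ∀ l, l < 1 → run3 10 [] 61 14 5 1 1 l = true
  | 0, _ => c14x1x0
  | _ + 1, h => absurd h (by omega)

theorem s14x2 : ∀ l, l < 1 → run3 10 [] 61 14 5 2 1 l = true
  | 0, _ => c14x2x0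
  | _ + 1, h => absurd h (by omega)

theorem s14x3 : ∀ l, l < 1 → run3 10 [] 61 14 5 3 1 l = true
  | 0, _ => c14x3x0
  | _ + 1, h => absurd h (by omega)

theorem s14x4 : ∀ l, l < 1 → run3 10 [] 61 14 5 4 1 l = true
  | 0, _ => c14x4x0
  | _ + 1, h => absurd h (by omega)

theorem r14 : ∀ j, j < 5 → ∃ n3, 0 < n3 ∧ ∀ l, l < n3 → run3 10 [] 61 14 5 j n3 l = true
  | 0, _ => ⟨1, by decide, s14x0⟩
  | 1, _ => ⟨1, by decide, s14x1⟩
  | 2, _ => ⟨1, by decide, s14x2⟩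
  | 3, _ => ⟨1, by decide, s14x3⟩
  | 4, _ => ⟨1, by decide, s14x4⟩
  | _ + 5, h => absurd h (by omega)

theorem s15x0 : ∀ l, l < 1 → run3 10 [] 61 15 57 0 1 l = true
  | 0, _ => c15x0x0
  | _ + 1, h => absurd h (by omega)

theorem s15x1 : ∀ l, l < 1 → run3 10 [] 61 15 57 1 1 l = true
  | 0, _ => c15x1x0
  | _ + 1, h => absurd h (by omega)

theorem s15x2 : ∀ l, l < 1 → run3 10 [] 61 15 57 2 1 l = true
  | 0, _ => c15x2x0
  | _ + 1, h => absurd h (by omega)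

theorem s15x3 : ∀ l, l < 1 → run3 10 [] 61 15 57 3 1 l = true
  | 0, _ => c15x3x0
  | _ + 1, h => absurd h (by omega)

theorem s15x4 : ∀ l, l < 1 → run3 10 [] 61 15 57 4 1 l = true
  | 0, _ => c15x4x0
  | _ + 1, h => absurd h (by omega)

theorem s15x5 : ∀ l, l < 3 → run3 10 [] 61 15 57 5 3 l = true
  | 0, _ => c15x5x0
  | 1, _ => c15x5x1
  | 2, _ => c15x5x2
  | _ + 3, h => absurd h (by omega)

theorem s15x6 : ∀ l, l < 1 → run3 10 [] 61 15 57 6 1 l = true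
  | 0, _ => c15x6x0
  | _ + 1, h => absurd h (by omega)

theorem s15x7 : ∀ l, l < 1 → run3 10 [] 61 15 57 7 1 l = true
  | 0, _ => c15x7x0
  | _ + 1, h => absurd h (by omega)

theorem s15x8 : ∀ l, l < 3 → run3 10 [] 61 15 57 8 3 l = true
  | 0, _ => c15x8x0
  | 1, _ => c15x8x1
  | 2, _ => c15x8x2
  | _ + 3, h => absurd h (by omega)

theorem s15x9 : ∀ l, l < 1 → run3 10 [] 61 15 57 9 1 l = true
  | 0, _ => c15x9x0
  | _ + 1, h => absurd h (by omega)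

theorem s15x10 : ∀ l, l < 1 → run3 10 [] 61 15 57 10 1 l = true
  | 0, _ => c15x10x0
  | _ + 1, h => absurd h (by omega)

theorem s15x11 : ∀ l, l < 1 → run3 10 [] 61 15 57 11 1 l = true
  | 0, _ => c15x11x0
  | _ + 1, h => absurd h (by omega)

theorem s15x12 : ∀ l, l < 1 → run3 10 [] 61 15 57 12 1 l = true
  | 0, _ => c15x12x0
  | _ + 1, h => absurd h (by omega)

theorem s15x13 : ∀ l, l < 1 → run3 10 [] 61 15 57 13 1 l = true
  | 0, _ => c15x13x0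
  | _ + 1, h => absurd h (by omega)

theorem s15x14 : ∀ l, l < 1 → run3 10 [] 61 15 57 14 1 l = true
  | 0, _ => c15x14x0
  | _ + 1, h => absurd h (by omega)

theorem s15x15 : ∀ l, l < 1 → run3 10 [] 61 15 57 15 1 l = true
  | 0, _ => c15x15x0
  | _ + 1, h => absurd h (by omega)

theorem s15x16 : ∀ l, l < 1 → run3 10 [] 61 15 57 16 1 l = true
  | 0, _ => c15x16x0
  | _ + 1, h => absurd h (by omega)

theorem s15x17 : ∀ l, l < 1 → run3 10 [] 61 15 57 17 1 l = true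
  | 0, _ => c15x17x0
  | _ + 1, h => absurd h (by omega)

theorem s15x18 : ∀ l, l < 1 → run3 10 [] 61 15 57 18 1 l = true
  | 0, _ => c15x18x0
  | _ + 1, h => absurd h (by omega)

theorem s15x19 : ∀ l, l < 1 → run3 10 [] 61 15 57 19 1 l = true
  | 0, _ => c15x19x0
  | _ + 1, h => absurd h (by omega)

theorem s15x20 : ∀ l, l < 3 → run3 10 [] 61 15 57 20 3 l = true
  | 0, _ => c15x20x0
  | 1, _ => c15x20x1
  | 2, _ => c15x20x2
  | _ + 3, h => absurd h (by omega)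

theorem s15x21 : ∀ l, l < 1 → run3 10 [] 61 15 57 21 1 l = true
  | 0, _ => c15x21x0
  | _ + 1, h => absurd h (by omega)

theorem s15x22 : ∀ l, l < 1 → run3 10 [] 61 15 57 22 1 l = true
  | 0, _ => c15x22x0
  | _ + 1, h => absurd h (by omega)

theorem s15x23 : ∀ l, l < 1 → run3 10 [] 61 15 57 23 1 l = true
  | 0, _ => c15x23x0
  | _ + 1, h => absurd h (by omega)

theorem s15x24 : ∀ l, l < 1 → run3 10 [] 61 15 57 24 1 l = true
  | 0, _ => c15x24x0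
  | _ + 1, h => absurd h (by omega)

theorem s15x25 : ∀ l, l < 1 → run3 10 [] 61 15 57 25 1 l = true
  | 0, _ => c15x25x0
  | _ + 1, h => absurd h (by omega)

theorem s15x26 : ∀ l, l < 3 → run3 10 [] 61 15 57 26 3 l = true
  | 0, _ => c15x26x0
  | 1, _ => c15x26x1
  | 2, _ => c15x26x2
  | _ + 3, h => absurd h (by omega)

theorem s15x27 : ∀ l, l < 1 → run3 10 [] 61 15 57 27 1 l = true
  | 0, _ => c15x27x0
  | _ + 1, h => absurd h (by omega)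

theorem s15x28 : ∀ l, l < 1 → run3 10 [] 61 15 57 28 1 l = true
  | 0, _ => c15x28x0
  | _ + 1, h => absurd h (by omega)

theorem s15x29 : ∀ l, l < 3 → run3 10 [] 61 15 57 29 3 l = true
  | 0, _ => c15x29x0
  | 1, _ => c15x29x1
  | 2, _ => c15x29x2
  | _ + 3, h => absurd h (by omega)

theorem s15x30 : ∀ l, l < 1 → run3 10 [] 61 15 57 30 1 l = true
  | 0, _ => c15x30x0
  | _ + 1, h => absurd h (by omega)

theorem s15x31 : ∀ l, l < 1 → run3 10 [] 61 15 57 31 1 l = true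
  | 0, _ => c15x31x0
  | _ + 1, h => absurd h (by omega)

theorem s15x32 : ∀ l, l < 1 → run3 10 [] 61 15 57 32 1 l = true
  | 0, _ => c15x32x0
  | _ + 1, h => absurd h (by omega)

theorem s15x33 : ∀ l, l < 1 → run3 10 [] 61 15 57 33 1 l = true
  | 0, _ => c15x33x0
  | _ + 1, h => absurd h (by omega)

theorem s15x34 : ∀ l, l < 1 → run3 10 [] 61 15 57 34 1 l = true
  | 0, _ => c15x34x0
  | _ + 1, h => absurd h (by omega)

theorem s15x35 : ∀ l, l < 1 → run3 10 [] 61 15 57 35 1 l = true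
  | 0, _ => c15x35x0
  | _ + 1, h => absurd h (by omega)

theorem s15x36 : ∀ l, l < 5 → run3 10 [] 61 15 57 36 5 l = true
  | 0, _ => c15x36x0
  | 1, _ => c15x36x1
  | 2, _ => c15x36x2
  | 3, _ => c15x36x3
  | 4, _ => c15x36x4
  | _ + 5, h => absurd h (by omega)

theorem s15x37 : ∀ l, l < 1 → run3 10 [] 61 15 57 37 1 l = true
  | 0, _ => c15x37x0
  | _ + 1, h => absurd h (by omega)

theorem s15x38 : ∀ l, l < 1 → run3 10 [] 61 15 57 38 1 l = true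
  | 0, _ => c15x38x0
  | _ + 1, h => absurd h (by omega)

theorem s15x39 : ∀ l, l < 1 → run3 10 [] 61 15 57 39 1 l = true
  | 0, _ => c15x39x0
  | _ + 1, h => absurd h (by omega)

theorem s15x40 : ∀ l, l < 1 → run3 10 [] 61 15 57 40 1 l = true
  | 0, _ => c15x40x0
  | _ + 1, h => absurd h (by omega)

theorem s15x41 : ∀ l, l < 3 → run3 10 [] 61 15 57 41 3 l = true
  | 0, _ => c15x41x0
  | 1, _ => c15x41x1
  | 2, _ => c15x41x2
  | _ + 3, h => absurd h (by omega)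

theorem s15x42 : ∀ l, l < 1 → run3 10 [] 61 15 57 42 1 l = true
  | 0, _ => c15x42x0
  | _ + 1, h => absurd h (by omega)

theorem s15x43 : ∀ l, l < 1 → run3 10 [] 61 15 57 43 1 l = true
  | 0, _ => c15x43x0
  | _ + 1, h => absurd h (by omega)

theorem s15x44 : ∀ l, l < 7 → run3 10 [] 61 15 57 44 7 l = true
  | 0, _ => c15x44x0
  | 1, _ => c15x44x1
  | 2, _ => c15x44x2
  | 3, _ => c15x44x3
  | 4, _ => c15x44x4
  | 5, _ => c15x44x5
  | 6, _ => c15x44x6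
  | _ + 7, h => absurd h (by omega)

theorem s15x45 : ∀ l, l < 1 → run3 10 [] 61 15 57 45 1 l = true
  | 0, _ => c15x45x0
  | _ + 1, h => absurd h (by omega)

theorem s15x46 : ∀ l, l < 1 → run3 10 [] 61 15 57 46 1 l = true
  | 0, _ => c15x46x0
  | _ + 1, h => absurd h (by omega)

theorem s15x47 : ∀ l, l < 1 → run3 10 [] 61 15 57 47 1 l = true
  | 0, _ => c15x47x0
  | _ + 1, h => absurd h (by omega)

theorem s15x48 : ∀ l, l < 1 → run3 10 [] 61 15 57 48 1 l = true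
  | 0, _ => c15x48x0
  | _ + 1, h => absurd h (by omega)

theorem s15x49 : ∀ l, l < 1 → run3 10 [] 61 15 57 49 1 l = true
  | 0, _ => c15x49x0
  | _ + 1, h => absurd h (by omega)

theorem s15x50 : ∀ l, l < 1 → run3 10 [] 61 15 57 50 1 l = true
  | 0, _ => c15x50x0
  | _ + 1, h => absurd h (by omega)

theorem s15x51 : ∀ l, l < 3 → run3 10 [] 61 15 57 51 3 l = true
  | 0, _ => c15x51x0
  | 1, _ => c15x51x1
  | 2, _ => c15x51x2
  | _ + 3, h => absurd h (by omega)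

theorem s15x52 : ∀ l, l < 1 → run3 10 [] 61 15 57 52 1 l = true
  | 0, _ => c15x52x0
  | _ + 1, h => absurd h (by omega)

theorem s15x53 : ∀ l, l < 3 → run3 10 [] 61 15 57 53 3 l = true
  | 0, _ => c15x53x0
  | 1, _ => c15x53x1
  | 2, _ => c15x53x2
  | _ + 3, h => absurd h (by omega)

theorem s15x54 : ∀ l, l < 3 → run3 10 [] 61 15 57 54 3 l = true
  | 0, _ => c15x54x0
  | 1, _ => c15x54x1
  | 2, _ => c15x54x2
  | _ + 3, h => absurd h (by omega)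

theorem s15x55 : ∀ l, l < 1 → run3 10 [] 61 15 57 55 1 l = true
  | 0, _ => c15x55x0
  | _ + 1, h => absurd h (by omega)

theorem s15x56 : ∀ l, l < 3 → run3 10 [] 61 15 57 56 3 l = true
  | 0, _ => c15x56x0
  | 1, _ => c15x56x1
  | 2, _ => c15x56x2
  | _ + 3, h => absurd h (by omega)

theorem r15 : ∀ j, j < 57 → ∃ n3, 0 < n3 ∧ ∀ l, l < n3 → run3 10 [] 61 15 57 j n3 l = true
  | 0, _ => ⟨1, by decide, s15x0⟩
  | 1, _ => ⟨1, by decide, s15x1⟩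
  | 2, _ => ⟨1, by decide, s15x2⟩
  | 3, _ => ⟨1, by decide, s15x3⟩
  | 4, _ => ⟨1, by decide, s15x4⟩
  | 5, _ => ⟨3, by decide, s15x5⟩
  | 6, _ => ⟨1, by decide, s15x6⟩
  | 7, _ => ⟨1, by decide, s15x7⟩
  | 8, _ => ⟨3, by decide, s15x8⟩
  | 9, _ => ⟨1, by decide, s15x9⟩
  | 10, _ => ⟨1, by decide, s15x10⟩
  | 11, _ => ⟨1, by decide, s15x11⟩
  | 12, _ => ⟨1, by decide, s15x12⟩
  | 13, _ => ⟨1, by decide, s15x13⟩
  | 14, _ => ⟨1, by decide, s15x14⟩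
  | 15, _ => ⟨1, by decide, s15x15⟩
  | 16, _ => ⟨1, by decide, s15x16⟩
  | 17, _ => ⟨1, by decide, s15x17⟩
  | 18, _ => ⟨1, by decide, s15x18⟩
  | 19, _ => ⟨1, by decide, s15x19⟩
  | 20, _ => ⟨3, by decide, s15x20⟩
  | 21, _ => ⟨1, by decide, s15x21⟩
  | 22, _ => ⟨1, by decide, s15x22⟩
  | 23, _ => ⟨1, by decide, s15x23⟩
  | 24, _ => ⟨1, by decide, s15x24⟩
  | 25, _ => ⟨1, by decide, s15x25⟩
  | 26, _ => ⟨3, by decide, s15x26⟩
  | 27, _ => ⟨1, by decide, s15x27⟩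
  | 28, _ => ⟨1, by decide, s15x28⟩
  | 29, _ => ⟨3, by decide, s15x29⟩
  | 30, _ => ⟨1, by decide, s15x30⟩
  | 31, _ => ⟨1, by decide, s15x31⟩
  | 32, _ => ⟨1, by decide, s15x32⟩
  | 33, _ => ⟨1, by decide, s15x33⟩
  | 34, _ => ⟨1, by decide, s15x34⟩
  | 35, _ => ⟨1, by decide, s15x35⟩
  | 36, _ => ⟨5, by decide, s15x36⟩
  | 37, _ => ⟨1, by decide, s15x37⟩
  | 38, _ => ⟨1, by decide, s15x38⟩
  | 39, _ => ⟨1, by decide, s15x39⟩
  | 40, _ => ⟨1, by decide, s15x40⟩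
  | 41, _ => ⟨3, by decide, s15x41⟩
  | 42, _ => ⟨1, by decide, s15x42⟩
  | 43, _ => ⟨1, by decide, s15x43⟩
  | 44, _ => ⟨7, by decide, s15x44⟩
  | 45, _ => ⟨1, by decide, s15x45⟩
  | 46, _ => ⟨1, by decide, s15x46⟩
  | 47, _ => ⟨1, by decide, s15x47⟩
  | 48, _ => ⟨1, by decide, s15x48⟩
  | 49, _ => ⟨1, by decide, s15x49⟩
  | 50, _ => ⟨1, by decide, s15x50⟩
  | 51, _ => ⟨3, by decide, s15x51⟩
  | 52, _ => ⟨1, by decide, s15x52⟩
  | 53, _ => ⟨3, by decide, s15x53⟩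
  | 54, _ => ⟨3, by decide, s15x54⟩
  | 55, _ => ⟨1, by decide, s15x55⟩
  | 56, _ => ⟨3, by decide, s15x56⟩
  | _ + 57, h => absurd h (by omega)

theorem s16x0 : ∀ l, l < 1 → run3 10 [] 61 16 3 0 1 l = true
  | 0, _ => c16x0x0
  | _ + 1, h => absurd h (by omega)

theorem s16x1 : ∀ l, l < 1 → run3 10 [] 61 16 3 1 1 l = true
  | 0, _ => c16x1x0
  | _ + 1, h => absurd h (by omega)

theorem s16x2 : ∀ l, l < 1 → run3 10 [] 61 16 3 2 1 l = true
  | 0, _ => c16x2x0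
  | _ + 1, h => absurd h (by omega)

theorem r16 : ∀ j, j < 3 → ∃ n3, 0 < n3 ∧ ∀ l, l < n3 → run3 10 [] 61 16 3 j n3 l = true
  | 0, _ => ⟨1, by decide, s16x0⟩
  | 1, _ => ⟨1, by decide, s16x1⟩
  | 2, _ => ⟨1, by decide, s16x2⟩
  | _ + 3, h => absurd h (by omega)

theorem s17x0 : ∀ l, l < 1 → run3 10 [] 61 17 19 0 1 l = true
  | 0, _ => c17x0x0
  | _ + 1, h => absurd h (by omega)

theorem s17x1 : ∀ l, l < 1 → run3 10 [] 61 17 19 1 1 l = true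
  | 0, _ => c17x1x0
  | _ + 1, h => absurd h (by omega)

theorem s17x2 : ∀ l, l < 1 → run3 10 [] 61 17 19 2 1 l = true
  | 0, _ => c17x2x0
  | _ + 1, h => absurd h (by omega)

theorem s17x3 : ∀ l, l < 1 → run3 10 [] 61 17 19 3 1 l = true
  | 0, _ => c17x3x0
  | _ + 1, h => absurd h (by omega)

theorem s17x4 : ∀ l, l < 1 → run3 10 [] 61 17 19 4 1 l = true
  | 0, _ => c17x4x0
  | _ + 1, h => absurd h (by omega)

theorem s17x5 : ∀ l, l < 1 → run3 10 [] 61 17 19 5 1 l = true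
  | 0, _ => c17x5x0
  | _ + 1, h => absurd h (by omega)

theorem s17x6 : ∀ l, l < 1 → run3 10 [] 61 17 19 6 1 l = true
  | 0, _ => c17x6x0
  | _ + 1, h => absurd h (by omega)

theorem s17x7 : ∀ l, l < 3 → run3 10 [] 61 17 19 7 3 l = true
  | 0, _ => c17x7x0
  | 1, _ => c17x7x1
  | 2, _ => c17x7x2
  | _ + 3, h => absurd h (by omega)

theorem s17x8 : ∀ l, l < 1 → run3 10 [] 61 17 19 8 1 l = true
  | 0, _ => c17x8x0
  | _ + 1, h => absurd h (by omega)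

theorem s17x9 : ∀ l, l < 1 → run3 10 [] 61 17 19 9 1 l = true
  | 0, _ => c17x9x0
  | _ + 1, h => absurd h (by omega)

theorem s17x10 : ∀ l, l < 1 → run3 10 [] 61 17 19 10 1 l = true
  | 0, _ => c17x10x0
  | _ + 1, h => absurd h (by omega)

theorem s17x11 : ∀ l, l < 1 → run3 10 [] 61 17 19 11 1 l = true
  | 0, _ => c17x11x0
  | _ + 1, h => absurd h (by omega)

theorem s17x12 : ∀ l, l < 1 → run3 10 [] 61 17 19 12 1 l = true
  | 0, _ => c17x12x0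
  | _ + 1, h => absurd h (by omega)

theorem s17x13 : ∀ l, l < 1 → run3 10 [] 61 17 19 13 1 l = true
  | 0, _ => c17x13x0
  | _ + 1, h => absurd h (by omega)

theorem s17x14 : ∀ l, l < 1 → run3 10 [] 61 17 19 14 1 l = true
  | 0, _ => c17x14x0
  | _ + 1, h => absurd h (by omega)

theorem s17x15 : ∀ l, l < 1 → run3 10 [] 61 17 19 15 1 l = true
  | 0, _ => c17x15x0
  | _ + 1, h => absurd h (by omega)

theorem s17x16 : ∀ l, l < 1 → run3 10 [] 61 17 19 16 1 l = true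
  | 0, _ => c17x16x0
  | _ + 1, h => absurd h (by omega)

theorem s17x17 : ∀ l, l < 3 → run3 10 [] 61 17 19 17 3 l = true
  | 0, _ => c17x17x0
  | 1, _ => c17x17x1
  | 2, _ => c17x17x2
  | _ + 3, h => absurd h (by omega)

theorem s17x18 : ∀ l, l < 5 → run3 10 [] 61 17 19 18 5 l = true
  | 0, _ => c17x18x0
  | 1, _ => c17x18x1
  | 2, _ => c17x18x2
  | 3, _ => c17x18x3
  | 4, _ => c17x18x4
  | _ + 5, h => absurd h (by omega)

theorem r17 : ∀ j, j < 19 → ∃ n3, 0 < n3 ∧ ∀ l, l < n3 → run3 10 [] 61 17 19 j n3 l = true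
  | 0, _ => ⟨1, by decide, s17x0⟩
  | 1, _ => ⟨1, by decide, s17x1⟩
  | 2, _ => ⟨1, by decide, s17x2⟩
  | 3, _ => ⟨1, by decide, s17x3⟩
  | 4, _ => ⟨1, by decide, s17x4⟩
  | 5, _ => ⟨1, by decide, s17x5⟩
  | 6, _ => ⟨1, by decide, s17x6⟩
  | 7, _ => ⟨3, by decide, s17x7⟩
  | 8, _ => ⟨1, by decide, s17x8⟩
  | 9, _ => ⟨1, by decide, s17x9⟩
  | 10, _ => ⟨1, by decide, s17x10⟩
  | 11, _ => ⟨1, by decide, s17x11⟩
  | 12, _ => ⟨1, by decide, s17x12⟩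
  | 13, _ => ⟨1, by decide, s17x13⟩
  | 14, _ => ⟨1, by decide, s17x14⟩
  | 15, _ => ⟨1, by decide, s17x15⟩
  | 16, _ => ⟨1, by decide, s17x16⟩
  | 17, _ => ⟨3, by decide, s17x17⟩
  | 18, _ => ⟨5, by decide, s17x18⟩
  | _ + 19, h => absurd h (by omega)

theorem s18x0 : ∀ l, l < 3 → run3 10 [] 61 18 39 0 3 l = true
  | 0, _ => c18x0x0
  | 1, _ => c18x0x1
  | 2, _ => c18x0x2
  | _ + 3, h => absurd h (by omega)

theorem s18x1 : ∀ l, l < 3 → run3 10 [] 61 18 39 1 3 l = true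
  | 0, _ => c18x1x0
  | 1, _ => c18x1x1
  | 2, _ => c18x1x2
  | _ + 3, h => absurd h (by omega)

theorem s18x2 : ∀ l, l < 3 → run3 10 [] 61 18 39 2 3 l = true
  | 0, _ => c18x2x0
  | 1, _ => c18x2x1
  | 2, _ => c18x2x2
  | _ + 3, h => absurd h (by omega)

theorem s18x3 : ∀ l, l < 3 → run3 10 [] 61 18 39 3 3 l = true
  | 0, _ => c18x3x0
  | 1, _ => c18x3x1
  | 2, _ => c18x3x2
  | _ + 3, h => absurd h (by omega)

theorem s18x4 : ∀ l, l < 1 → run3 10 [] 61 18 39 4 1 l = true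
  | 0, _ => c18x4x0
  | _ + 1, h => absurd h (by omega)

theorem s18x5 : ∀ l, l < 1 → run3 10 [] 61 18 39 5 1 l = true
  | 0, _ => c18x5x0
  | _ + 1, h => absurd h (by omega)

theorem s18x6 : ∀ l, l < 1 → run3 10 [] 61 18 39 6 1 l = true
  | 0, _ => c18x6x0
  | _ + 1, h => absurd h (by omega)

theorem s18x7 : ∀ l, l < 1 → run3 10 [] 61 18 39 7 1 l = true
  | 0, _ => c18x7x0
  | _ + 1, h => absurd h (by omega)

theorem s18x8 : ∀ l, l < 1 → run3 10 [] 61 18 39 8 1 l = true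
  | 0, _ => c18x8x0
  | _ + 1, h => absurd h (by omega)

theorem s18x9 : ∀ l, l < 1 → run3 10 [] 61 18 39 9 1 l = true
  | 0, _ => c18x9x0
  | _ + 1, h => absurd h (by omega)

theorem s18x10 : ∀ l, l < 1 → run3 10 [] 61 18 39 10 1 l = true
  | 0, _ => c18x10x0
  | _ + 1, h => absurd h (by omega)

theorem s18x11 : ∀ l, l < 1 → run3 10 [] 61 18 39 11 1 l = true
  | 0, _ => c18x11x0
  | _ + 1, h => absurd h (by omega)

theorem s18x12 : ∀ l, l < 1 → run3 10 [] 61 18 39 12 1 l = true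
  | 0, _ => c18x12x0
  | _ + 1, h => absurd h (by omega)

theorem s18x13 : ∀ l, l < 1 → run3 10 [] 61 18 39 13 1 l = true
  | 0, _ => c18x13x0
  | _ + 1, h => absurd h (by omega)

theorem s18x14 : ∀ l, l < 1 → run3 10 [] 61 18 39 14 1 l = true
  | 0, _ => c18x14x0
  | _ + 1, h => absurd h (by omega)

theorem s18x15 : ∀ l, l < 1 → run3 10 [] 61 18 39 15 1 l = true
  | 0, _ => c18x15x0
  | _ + 1, h => absurd h (by omega)

theorem s18x16 : ∀ l, l < 1 → run3 10 [] 61 18 39 16 1 l = true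
  | 0, _ => c18x16x0
  | _ + 1, h => absurd h (by omega)

theorem s18x17 : ∀ l, l < 1 → run3 10 [] 61 18 39 17 1 l = true
  | 0, _ => c18x17x0
  | _ + 1, h => absurd h (by omega)

theorem s18x18 : ∀ l, l < 1 → run3 10 [] 61 18 39 18 1 l = true
  | 0, _ => c18x18x0
  | _ + 1, h => absurd h (by omega)

theorem s18x19 : ∀ l, l < 1 → run3 10 [] 61 18 39 19 1 l = true
  | 0, _ => c18x19x0
  | _ + 1, h => absurd h (by omega)

theorem s18x20 : ∀ l, l < 1 → run3 10 [] 61 18 39 20 1 l = true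
  | 0, _ => c18x20x0
  | _ + 1, h => absurd h (by omega)

theorem s18x21 : ∀ l, l < 1 → run3 10 [] 61 18 39 21 1 l = true
  | 0, _ => c18x21x0
  | _ + 1, h => absurd h (by omega)

theorem s18x22 : ∀ l, l < 1 → run3 10 [] 61 18 39 22 1 l = true
  | 0, _ => c18x22x0
  | _ + 1, h => absurd h (by omega)

theorem s18x23 : ∀ l, l < 3 → run3 10 [] 61 18 39 23 3 l = true
  | 0, _ => c18x23x0
  | 1, _ => c18x23x1
  | 2, _ => c18x23x2
  | _ + 3, h => absurd h (by omega)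

theorem s18x24 : ∀ l, l < 1 → run3 10 [] 61 18 39 24 1 l = true
  | 0, _ => c18x24x0
  | _ + 1, h => absurd h (by omega)

theorem s18x25 : ∀ l, l < 1 → run3 10 [] 61 18 39 25 1 l = true
  | 0, _ => c18x25x0
  | _ + 1, h => absurd h (by omega)

theorem s18x26 : ∀ l, l < 1 → run3 10 [] 61 18 39 26 1 l = true
  | 0, _ => c18x26x0
  | _ + 1, h => absurd h (by omega)

theorem s18x27 : ∀ l, l < 1 → run3 10 [] 61 18 39 27 1 l = true
  | 0, _ => c18x27x0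
  | _ + 1, h => absurd h (by omega)

theorem s18x28 : ∀ l, l < 1 → run3 10 [] 61 18 39 28 1 l = true
  | 0, _ => c18x28x0
  | _ + 1, h => absurd h (by omega)

theorem s18x29 : ∀ l, l < 1 → run3 10 [] 61 18 39 29 1 l = true
  | 0, _ => c18x29x0
  | _ + 1, h => absurd h (by omega)

theorem s18x30 : ∀ l, l < 1 → run3 10 [] 61 18 39 30 1 l = true
  | 0, _ => c18x30x0
  | _ + 1, h => absurd h (by omega)

theorem s18x31 : ∀ l, l < 1 → run3 10 [] 61 18 39 31 1 l = true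
  | 0, _ => c18x31x0
  | _ + 1, h => absurd h (by omega)

theorem s18x32 : ∀ l, l < 1 → run3 10 [] 61 18 39 32 1 l = true
  | 0, _ => c18x32x0
  | _ + 1, h => absurd h (by omega)

theorem s18x33 : ∀ l, l < 5 → run3 10 [] 61 18 39 33 5 l = true
  | 0, _ => c18x33x0
  | 1, _ => c18x33x1
  | 2, _ => c18x33x2
  | 3, _ => c18x33x3
  | 4, _ => c18x33x4
  | _ + 5, h => absurd h (by omega)

theorem s18x34 : ∀ l, l < 1 → run3 10 [] 61 18 39 34 1 l = true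
  | 0, _ => c18x34x0
  | _ + 1, h => absurd h (by omega)

theorem s18x35 : ∀ l, l < 3 → run3 10 [] 61 18 39 35 3 l = true
  | 0, _ => c18x35x0
  | 1, _ => c18x35x1
  | 2, _ => c18x35x2
  | _ + 3, h => absurd h (by omega)

theorem s18x36 : ∀ l, l < 3 → run3 10 [] 61 18 39 36 3 l = true
  | 0, _ => c18x36x0
  | 1, _ => c18x36x1
  | 2, _ => c18x36x2
  | _ + 3, h => absurd h (by omega)

theorem s18x37 : ∀ l, l < 3 → run3 10 [] 61 18 39 37 3 l = true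
  | 0, _ => c18x37x0
  | 1, _ => c18x37x1
  | 2, _ => c18x37x2
  | _ + 3, h => absurd h (by omega)

theorem s18x38 : ∀ l, l < 3 → run3 10 [] 61 18 39 38 3 l = true
  | 0, _ => c18x38x0
  | 1, _ => c18x38x1
  | 2, _ => c18x38x2
  | _ + 3, h => absurd h (by omega)

theorem r18 : ∀ j, j < 39 → ∃ n3, 0 < n3 ∧ ∀ l, l < n3 → run3 10 [] 61 18 39 j n3 l = true
  | 0, _ => ⟨3, by decide, s18x0⟩
  | 1, _ => ⟨3, by decide, s18x1⟩
  | 2, _ => ⟨3, by decide, s18x2⟩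
  | 3, _ => ⟨3, by decide, s18x3⟩
  | 4, _ => ⟨1, by decide, s18x4⟩
  | 5, _ => ⟨1, by decide, s18x5⟩
  | 6, _ => ⟨1, by decide, s18x6⟩
  | 7, _ => ⟨1, by decide, s18x7⟩
  | 8, _ => ⟨1, by decide, s18x8⟩
  | 9, _ => ⟨1, by decide, s18x9⟩
  | 10, _ => ⟨1, by decide, s18x10⟩
  | 11, _ => ⟨1, by decide, s18x11⟩
  | 12, _ => ⟨1, by decide, s18x12⟩
  | 13, _ => ⟨1, by decide, s18x13⟩
  | 14, _ => ⟨1, by decide, s18x14⟩
  | 15, _ => ⟨1, by decide, s18x15⟩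
  | 16, _ => ⟨1, by decide, s18x16⟩
  | 17, _ => ⟨1, by decide, s18x17⟩
  | 18, _ => ⟨1, by decide, s18x18⟩
  | 19, _ => ⟨1, by decide, s18x19⟩
  | 20, _ => ⟨1, by decide, s18x20⟩
  | 21, _ => ⟨1, by decide, s18x21⟩
  | 22, _ => ⟨1, by decide, s18x22⟩
  | 23, _ => ⟨3, by decide, s18x23⟩
  | 24, _ => ⟨1, by decide, s18x24⟩
  | 25, _ => ⟨1, by decide, s18x25⟩
  | 26, _ => ⟨1, by decide, s18x26⟩
  | 27, _ => ⟨1, by decide, s18x27⟩
  | 28, _ => ⟨1, by decide, s18x28⟩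
  | 29, _ => ⟨1, by decide, s18x29⟩
  | 30, _ => ⟨1, by decide, s18x30⟩
  | 31, _ => ⟨1, by decide, s18x31⟩
  | 32, _ => ⟨1, by decide, s18x32⟩
  | 33, _ => ⟨5, by decide, s18x33⟩
  | 34, _ => ⟨1, by decide, s18x34⟩
  | 35, _ => ⟨3, by decide, s18x35⟩
  | 36, _ => ⟨3, by decide, s18x36⟩
  | 37, _ => ⟨3, by decide, s18x37⟩
  | 38, _ => ⟨3, by decide, s18x38⟩
  | _ + 39, h => absurd h (by omega)

theorem s19x0 : ∀ l, l < 1 → run3 10 [] 61 19 11 0 1 l = true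
  | 0, _ => c19x0x0
  | _ + 1, h => absurd h (by omega)

theorem s19x1 : ∀ l, l < 1 → run3 10 [] 61 19 11 1 1 l = true
  | 0, _ => c19x1x0
  | _ + 1, h => absurd h (by omega)

theorem s19x2 : ∀ l, l < 1 → run3 10 [] 61 19 11 2 1 l = true
  | 0, _ => c19x2x0
  | _ + 1, h => absurd h (by omega)

theorem s19x3 : ∀ l, l < 1 → run3 10 [] 61 19 11 3 1 l = true
  | 0, _ => c19x3x0
  | _ + 1, h => absurd h (by omega)

theorem s19x4 : ∀ l, l < 3 → run3 10 [] 61 19 11 4 3 l = true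
  | 0, _ => c19x4x0
  | 1, _ => c19x4x1
  | 2, _ => c19x4x2
  | _ + 3, h => absurd h (by omega)

theorem s19x5 : ∀ l, l < 1 → run3 10 [] 61 19 11 5 1 l = true
  | 0, _ => c19x5x0
  | _ + 1, h => absurd h (by omega)

theorem s19x6 : ∀ l, l < 1 → run3 10 [] 61 19 11 6 1 l = true
  | 0, _ => c19x6x0
  | _ + 1, h => absurd h (by omega)

theorem s19x7 : ∀ l, l < 1 → run3 10 [] 61 19 11 7 1 l = true
  | 0, _ => c19x7x0
  | _ + 1, h => absurd h (by omega)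

theorem s19x8 : ∀ l, l < 1 → run3 10 [] 61 19 11 8 1 l = true
  | 0, _ => c19x8x0
  | _ + 1, h => absurd h (by omega)

theorem s19x9 : ∀ l, l < 1 → run3 10 [] 61 19 11 9 1 l = true
  | 0, _ => c19x9x0
  | _ + 1, h => absurd h (by omega)

theorem s19x10 : ∀ l, l < 1 → run3 10 [] 61 19 11 10 1 l = true
  | 0, _ => c19x10x0
  | _ + 1, h => absurd h (by omega)

theorem r19 : ∀ j, j < 11 → ∃ n3, 0 < n3 ∧ ∀ l, l < n3 → run3 10 [] 61 19 11 j n3 l = true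
  | 0, _ => ⟨1, by decide, s19x0⟩
  | 1, _ => ⟨1, by decide, s19x1⟩
  | 2, _ => ⟨1, by decide, s19x2⟩
  | 3, _ => ⟨1, by decide, s19x3⟩
  | 4, _ => ⟨3, by decide, s19x4⟩
  | 5, _ => ⟨1, by decide, s19x5⟩
  | 6, _ => ⟨1, by decide, s19x6⟩
  | 7, _ => ⟨1, by decide, s19x7⟩
  | 8, _ => ⟨1, by decide, s19x8⟩
  | 9, _ => ⟨1, by decide, s19x9⟩
  | 10, _ => ⟨1, by decide, s19x10⟩
  | _ + 11, h => absurd h (by omega)

theorem s20x0 : ∀ l, l < 1 → run3 10 [] 61 20 3 0 1 l = true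
  | 0, _ => c20x0x0
  | _ + 1, h => absurd h (by omega)

theorem s20x1 : ∀ l, l < 1 → run3 10 [] 61 20 3 1 1 l = true
  | 0, _ => c20x1x0
  | _ + 1, h => absurd h (by omega)

theorem s20x2 : ∀ l, l < 1 → run3 10 [] 61 20 3 2 1 l = true
  | 0, _ => c20x2x0
  | _ + 1, h => absurd h (by omega)

theorem r20 : ∀ j, j < 3 → ∃ n3, 0 < n3 ∧ ∀ l, l < n3 → run3 10 [] 61 20 3 j n3 l = true
  | 0, _ => ⟨1, by decide, s20x0⟩
  | 1, _ => ⟨1, by decide, s20x1⟩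
  | 2, _ => ⟨1, by decide, s20x2⟩
  | _ + 3, h => absurd h (by omega)

theorem s21x0 : ∀ l, l < 1 → run3 10 [] 61 21 7 0 1 l = true
  | 0, _ => c21x0x0
  | _ + 1, h => absurd h (by omega)

theorem s21x1 : ∀ l, l < 1 → run3 10 [] 61 21 7 1 1 l = true
  | 0, _ => c21x1x0
  | _ + 1, h => absurd h (by omega)

theorem s21x2 : ∀ l, l < 1 → run3 10 [] 61 21 7 2 1 l = true
  | 0, _ => c21x2x0
  | _ + 1, h => absurd h (by omega)

theorem s21x3 : ∀ l, l < 3 → run3 10 [] 61 21 7 3 3 l = true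
  | 0, _ => c21x3x0
  | 1, _ => c21x3x1
  | 2, _ => c21x3x2
  | _ + 3, h => absurd h (by omega)

theorem s21x4 : ∀ l, l < 1 → run3 10 [] 61 21 7 4 1 l = true
  | 0, _ => c21x4x0
  | _ + 1, h => absurd h (by omega)

theorem s21x5 : ∀ l, l < 1 → run3 10 [] 61 21 7 5 1 l = true
  | 0, _ => c21x5x0
  | _ + 1, h => absurd h (by omega)

theorem s21x6 : ∀ l, l < 1 → run3 10 [] 61 21 7 6 1 l = true
  | 0, _ => c21x6x0
  | _ + 1, h => absurd h (by omega)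

theorem r21 : ∀ j, j < 7 → ∃ n3, 0 < n3 ∧ ∀ l, l < n3 → run3 10 [] 61 21 7 j n3 l = true
  | 0, _ => ⟨1, by decide, s21x0⟩
  | 1, _ => ⟨1, by decide, s21x1⟩
  | 2, _ => ⟨1, by decide, s21x2⟩
  | 3, _ => ⟨3, by decide, s21x3⟩
  | 4, _ => ⟨1, by decide, s21x4⟩
  | 5, _ => ⟨1, by decide, s21x5⟩
  | 6, _ => ⟨1, by decide, s21x6⟩
  | _ + 7, h => absurd h (by omega)

theorem s22x0 : ∀ l, l < 1 → run3 10 [] 61 22 7 0 1 l = true
  | 0, _ => c22x0x0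
  | _ + 1, h => absurd h (by omega)

theorem s22x1 : ∀ l, l < 1 → run3 10 [] 61 22 7 1 1 l = true
  | 0, _ => c22x1x0
  | _ + 1, h => absurd h (by omega)

theorem s22x2 : ∀ l, l < 1 → run3 10 [] 61 22 7 2 1 l = true
  | 0, _ => c22x2x0
  | _ + 1, h => absurd h (by omega)

theorem s22x3 : ∀ l, l < 1 → run3 10 [] 61 22 7 3 1 l = true
  | 0, _ => c22x3x0
  | _ + 1, h => absurd h (by omega)

theorem s22x4 : ∀ l, l < 1 → run3 10 [] 61 22 7 4 1 l = true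
  | 0, _ => c22x4x0
  | _ + 1, h => absurd h (by omega)

theorem s22x5 : ∀ l, l < 1 → run3 10 [] 61 22 7 5 1 l = true
  | 0, _ => c22x5x0
  | _ + 1, h => absurd h (by omega)

theorem s22x6 : ∀ l, l < 1 → run3 10 [] 61 22 7 6 1 l = true
  | 0, _ => c22x6x0
  | _ + 1, h => absurd h (by omega)

theorem r22 : ∀ j, j < 7 → ∃ n3, 0 < n3 ∧ ∀ l, l < n3 → run3 10 [] 61 22 7 j n3 l = true
  | 0, _ => ⟨1, by decide, s22x0⟩
  | 1, _ => ⟨1, by decide, s22x1⟩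
  | 2, _ => ⟨1, by decide, s22x2⟩
  | 3, _ => ⟨1, by decide, s22x3⟩
  | 4, _ => ⟨1, by decide, s22x4⟩
  | 5, _ => ⟨1, by decide, s22x5⟩
  | 6, _ => ⟨1, by decide, s22x6⟩
  | _ + 7, h => absurd h (by omega)

theorem s23x0 : ∀ l, l < 1 → run3 10 [] 61 23 5 0 1 l = true
  | 0, _ => c23x0x0
  | _ + 1, h => absurd h (by omega)

theorem s23x1 : ∀ l, l < 1 → run3 10 [] 61 23 5 1 1 l = true
  | 0, _ => c23x1x0
  | _ + 1, h => absurd h (by omega)

theorem s23x2 : ∀ l, l < 1 → run3 10 [] 61 23 5 2 1 l = true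
  | 0, _ => c23x2x0
  | _ + 1, h => absurd h (by omega)

theorem s23x3 : ∀ l, l < 1 → run3 10 [] 61 23 5 3 1 l = true
  | 0, _ => c23x3x0
  | _ + 1, h => absurd h (by omega)

theorem s23x4 : ∀ l, l < 1 → run3 10 [] 61 23 5 4 1 l = true
  | 0, _ => c23x4x0
  | _ + 1, h => absurd h (by omega)

theorem r23 : ∀ j, j < 5 → ∃ n3, 0 < n3 ∧ ∀ l, l < n3 → run3 10 [] 61 23 5 j n3 l = true
  | 0, _ => ⟨1, by decide, s23x0⟩
  | 1, _ => ⟨1, by decide, s23x1⟩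
  | 2, _ => ⟨1, by decide, s23x2⟩
  | 3, _ => ⟨1, by decide, s23x3⟩
  | 4, _ => ⟨1, by decide, s23x4⟩
  | _ + 5, h => absurd h (by omega)

theorem s24x0 : ∀ l, l < 1 → run3 10 [] 61 24 5 0 1 l = true
  | 0, _ => c24x0x0
  | _ + 1, h => absurd h (by omega)

theorem s24x1 : ∀ l, l < 1 → run3 10 [] 61 24 5 1 1 l = true
  | 0, _ => c24x1x0
  | _ + 1, h => absurd h (by omega)

theorem s24x2 : ∀ l, l < 1 → run3 10 [] 61 24 5 2 1 l = true
  | 0, _ => c24x2x0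
  | _ + 1, h => absurd h (by omega)

theorem s24x3 : ∀ l, l < 1 → run3 10 [] 61 24 5 3 1 l = true
  | 0, _ => c24x3x0
  | _ + 1, h => absurd h (by omega)

theorem s24x4 : ∀ l, l < 3 → run3 10 [] 61 24 5 4 3 l = true
  | 0, _ => c24x4x0
  | 1, _ => c24x4x1
  | 2, _ => c24x4x2
  | _ + 3, h => absurd h (by omega)

theorem r24 : ∀ j, j < 5 → ∃ n3, 0 < n3 ∧ ∀ l, l < n3 → run3 10 [] 61 24 5 j n3 l = true
  | 0, _ => ⟨1, by decide, s24x0⟩
  | 1, _ => ⟨1, by decide, s24x1⟩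
  | 2, _ => ⟨1, by decide, s24x2⟩
  | 3, _ => ⟨1, by decide, s24x3⟩
  | 4, _ => ⟨3, by decide, s24x4⟩
  | _ + 5, h => absurd h (by omega)

theorem s25x0 : ∀ l, l < 1 → run3 10 [] 61 25 3 0 1 l = true
  | 0, _ => c25x0x0
  | _ + 1, h => absurd h (by omega)

theorem s25x1 : ∀ l, l < 1 → run3 10 [] 61 25 3 1 1 l = true
  | 0, _ => c25x1x0
  | _ + 1, h => absurd h (by omega)

theorem s25x2 : ∀ l, l < 1 → run3 10 [] 61 25 3 2 1 l = true
  | 0, _ => c25x2x0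
  | _ + 1, h => absurd h (by omega)

theorem r25 : ∀ j, j < 3 → ∃ n3, 0 < n3 ∧ ∀ l, l < n3 → run3 10 [] 61 25 3 j n3 l = true
  | 0, _ => ⟨1, by decide, s25x0⟩
  | 1, _ => ⟨1, by decide, s25x1⟩
  | 2, _ => ⟨1, by decide, s25x2⟩
  | _ + 3, h => absurd h (by omega)

theorem s26x0 : ∀ l, l < 3 → run3 10 [] 61 26 7 0 3 l = true
  | 0, _ => c26x0x0
  | 1, _ => c26x0x1
  | 2, _ => c26x0x2
  | _ + 3, h => absurd h (by omega)

theorem s26x1 : ∀ l, l < 1 → run3 10 [] 61 26 7 1 1 l = true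
  | 0, _ => c26x1x0
  | _ + 1, h => absurd h (by omega)

theorem s26x2 : ∀ l, l < 1 → run3 10 [] 61 26 7 2 1 l = true
  | 0, _ => c26x2x0
  | _ + 1, h => absurd h (by omega)

theorem s26x3 : ∀ l, l < 1 → run3 10 [] 61 26 7 3 1 l = true
  | 0, _ => c26x3x0
  | _ + 1, h => absurd h (by omega)

theorem s26x4 : ∀ l, l < 1 → run3 10 [] 61 26 7 4 1 l = true
  | 0, _ => c26x4x0
  | _ + 1, h => absurd h (by omega)

theorem s26x5 : ∀ l, l < 1 → run3 10 [] 61 26 7 5 1 l = true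
  | 0, _ => c26x5x0
  | _ + 1, h => absurd h (by omega)

theorem s26x6 : ∀ l, l < 1 → run3 10 [] 61 26 7 6 1 l = true
  | 0, _ => c26x6x0
  | _ + 1, h => absurd h (by omega)

theorem r26 : ∀ j, j < 7 → ∃ n3, 0 < n3 ∧ ∀ l, l < n3 → run3 10 [] 61 26 7 j n3 l = true
  | 0, _ => ⟨3, by decide, s26x0⟩
  | 1, _ => ⟨1, by decide, s26x1⟩
  | 2, _ => ⟨1, by decide, s26x2⟩
  | 3, _ => ⟨1, by decide, s26x3⟩
  | 4, _ => ⟨1, by decide, s26x4⟩
  | 5, _ => ⟨1, by decide, s26x5⟩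
  | 6, _ => ⟨1, by decide, s26x6⟩
  | _ + 7, h => absurd h (by omega)

theorem s27x0 : ∀ l, l < 1 → run3 10 [] 61 27 9 0 1 l = true
  | 0, _ => c27x0x0
  | _ + 1, h => absurd h (by omega)

theorem s27x1 : ∀ l, l < 1 → run3 10 [] 61 27 9 1 1 l = true
  | 0, _ => c27x1x0
  | _ + 1, h => absurd h (by omega)

theorem s27x2 : ∀ l, l < 1 → run3 10 [] 61 27 9 2 1 l = true
  | 0, _ => c27x2x0
  | _ + 1, h => absurd h (by omega)

theorem s27x3 : ∀ l, l < 1 → run3 10 [] 61 27 9 3 1 l = true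
  | 0, _ => c27x3x0
  | _ + 1, h => absurd h (by omega)

theorem s27x4 : ∀ l, l < 1 → run3 10 [] 61 27 9 4 1 l = true
  | 0, _ => c27x4x0
  | _ + 1, h => absurd h (by omega)

theorem s27x5 : ∀ l, l < 1 → run3 10 [] 61 27 9 5 1 l = true
  | 0, _ => c27x5x0
  | _ + 1, h => absurd h (by omega)

theorem s27x6 : ∀ l, l < 1 → run3 10 [] 61 27 9 6 1 l = true
  | 0, _ => c27x6x0
  | _ + 1, h => absurd h (by omega)

theorem s27x7 : ∀ l, l < 1 → run3 10 [] 61 27 9 7 1 l = true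
  | 0, _ => c27x7x0
  | _ + 1, h => absurd h (by omega)

theorem s27x8 : ∀ l, l < 1 → run3 10 [] 61 27 9 8 1 l = true
  | 0, _ => c27x8x0
  | _ + 1, h => absurd h (by omega)

theorem r27 : ∀ j, j < 9 → ∃ n3, 0 < n3 ∧ ∀ l, l < n3 → run3 10 [] 61 27 9 j n3 l = true
  | 0, _ => ⟨1, by decide, s27x0⟩
  | 1, _ => ⟨1, by decide, s27x1⟩
  | 2, _ => ⟨1, by decide, s27x2⟩
  | 3, _ => ⟨1, by decide, s27x3⟩
  | 4, _ => ⟨1, by decide, s27x4⟩
  | 5, _ => ⟨1, by decide, s27x5⟩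
  | 6, _ => ⟨1, by decide, s27x6⟩
  | 7, _ => ⟨1, by decide, s27x7⟩
  | 8, _ => ⟨1, by decide, s27x8⟩
  | _ + 9, h => absurd h (by omega)

theorem s28x0 : ∀ l, l < 1 → run3 10 [] 61 28 5 0 1 l = true
  | 0, _ => c28x0x0
  | _ + 1, h => absurd h (by omega)

theorem s28x1 : ∀ l, l < 1 → run3 10 [] 61 28 5 1 1 l = true
  | 0, _ => c28x1x0
  | _ + 1, h => absurd h (by omega)

theorem s28x2 : ∀ l, l < 1 → run3 10 [] 61 28 5 2 1 l = true
  | 0, _ => c28x2x0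
  | _ + 1, h => absurd h (by omega)

theorem s28x3 : ∀ l, l < 1 → run3 10 [] 61 28 5 3 1 l = true
  | 0, _ => c28x3x0
  | _ + 1, h => absurd h (by omega)

theorem s28x4 : ∀ l, l < 1 → run3 10 [] 61 28 5 4 1 l = true
  | 0, _ => c28x4x0
  | _ + 1, h => absurd h (by omega)

theorem r28 : ∀ j, j < 5 → ∃ n3, 0 < n3 ∧ ∀ l, l < n3 → run3 10 [] 61 28 5 j n3 l = true
  | 0, _ => ⟨1, by decide, s28x0⟩
  | 1, _ => ⟨1, by decide, s28x1⟩
  | 2, _ => ⟨1, by decide, s28x2⟩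
  | 3, _ => ⟨1, by decide, s28x3⟩
  | 4, _ => ⟨1, by decide, s28x4⟩
  | _ + 5, h => absurd h (by omega)

theorem s29x0 : ∀ l, l < 1 → run3 10 [] 61 29 3 0 1 l = true
  | 0, _ => c29x0x0
  | _ + 1, h => absurd h (by omega)

theorem s29x1 : ∀ l, l < 1 → run3 10 [] 61 29 3 1 1 l = true
  | 0, _ => c29x1x0
  | _ + 1, h => absurd h (by omega)

theorem s29x2 : ∀ l, l < 1 → run3 10 [] 61 29 3 2 1 l = true
  | 0, _ => c29x2x0
  | _ + 1, h => absurd h (by omega)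

theorem r29 : ∀ j, j < 3 → ∃ n3, 0 < n3 ∧ ∀ l, l < n3 → run3 10 [] 61 29 3 j n3 l = true
  | 0, _ => ⟨1, by decide, s29x0⟩
  | 1, _ => ⟨1, by decide, s29x1⟩
  | 2, _ => ⟨1, by decide, s29x2⟩
  | _ + 3, h => absurd h (by omega)

theorem s30x0 : ∀ l, l < 1 → run3 10 [] 61 30 5 0 1 l = true
  | 0, _ => c30x0x0
  | _ + 1, h => absurd h (by omega)

theorem s30x1 : ∀ l, l < 1 → run3 10 [] 61 30 5 1 1 l = true
  | 0, _ => c30x1x0
  | _ + 1, h => absurd h (by omega)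

theorem s30x2 : ∀ l, l < 1 → run3 10 [] 61 30 5 2 1 l = true
  | 0, _ => c30x2x0
  | _ + 1, h => absurd h (by omega)

theorem s30x3 : ∀ l, l < 1 → run3 10 [] 61 30 5 3 1 l = true
  | 0, _ => c30x3x0
  | _ + 1, h => absurd h (by omega)

theorem s30x4 : ∀ l, l < 1 → run3 10 [] 61 30 5 4 1 l = true
  | 0, _ => c30x4x0
  | _ + 1, h => absurd h (by omega)

theorem r30 : ∀ j, j < 5 → ∃ n3, 0 < n3 ∧ ∀ l, l < n3 → run3 10 [] 61 30 5 j n3 l = true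
  | 0, _ => ⟨1, by decide, s30x0⟩
  | 1, _ => ⟨1, by decide, s30x1⟩
  | 2, _ => ⟨1, by decide, s30x2⟩
  | 3, _ => ⟨1, by decide, s30x3⟩
  | 4, _ => ⟨1, by decide, s30x4⟩
  | _ + 5, h => absurd h (by omega)

theorem s31x0 : ∀ l, l < 1 → run3 10 [] 61 31 3 0 1 l = true
  | 0, _ => c31x0x0
  | _ + 1, h => absurd h (by omega)

theorem s31x1 : ∀ l, l < 1 → run3 10 [] 61 31 3 1 1 l = true
  | 0, _ => c31x1x0
  | _ + 1, h => absurd h (by omega)

theorem s31x2 : ∀ l, l < 1 → run3 10 [] 61 31 3 2 1 l = true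
  | 0, _ => c31x2x0
  | _ + 1, h => absurd h (by omega)

theorem r31 : ∀ j, j < 3 → ∃ n3, 0 < n3 ∧ ∀ l, l < n3 → run3 10 [] 61 31 3 j n3 l = true
  | 0, _ => ⟨1, by decide, s31x0⟩
  | 1, _ => ⟨1, by decide, s31x1⟩
  | 2, _ => ⟨1, by decide, s31x2⟩
  | _ + 3, h => absurd h (by omega)

theorem s32x0 : ∀ l, l < 1 → run3 10 [] 61 32 7 0 1 l = true
  | 0, _ => c32x0x0
  | _ + 1, h => absurd h (by omega)

theorem s32x1 : ∀ l, l < 1 → run3 10 [] 61 32 7 1 1 l = true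
  | 0, _ => c32x1x0
  | _ + 1, h => absurd h (by omega)

theorem s32x2 : ∀ l, l < 1 → run3 10 [] 61 32 7 2 1 l = true
  | 0, _ => c32x2x0
  | _ + 1, h => absurd h (by omega)

theorem s32x3 : ∀ l, l < 3 → run3 10 [] 61 32 7 3 3 l = true
  | 0, _ => c32x3x0
  | 1, _ => c32x3x1
  | 2, _ => c32x3x2
  | _ + 3, h => absurd h (by omega)

theorem s32x4 : ∀ l, l < 3 → run3 10 [] 61 32 7 4 3 l = true
  | 0, _ => c32x4x0
  | 1, _ => c32x4x1
  | 2, _ => c32x4x2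
  | _ + 3, h => absurd h (by omega)

theorem s32x5 : ∀ l, l < 1 → run3 10 [] 61 32 7 5 1 l = true
  | 0, _ => c32x5x0
  | _ + 1, h => absurd h (by omega)

theorem s32x6 : ∀ l, l < 1 → run3 10 [] 61 32 7 6 1 l = true
  | 0, _ => c32x6x0
  | _ + 1, h => absurd h (by omega)

theorem r32 : ∀ j, j < 7 → ∃ n3, 0 < n3 ∧ ∀ l, l < n3 → run3 10 [] 61 32 7 j n3 l = true
  | 0, _ => ⟨1, by decide, s32x0⟩
  | 1, _ => ⟨1, by decide, s32x1⟩
  | 2, _ => ⟨1, by decide, s32x2⟩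
  | 3, _ => ⟨3, by decide, s32x3⟩
  | 4, _ => ⟨3, by decide, s32x4⟩
  | 5, _ => ⟨1, by decide, s32x5⟩
  | 6, _ => ⟨1, by decide, s32x6⟩
  | _ + 7, h => absurd h (by omega)

theorem s33x0 : ∀ l, l < 1 → run3 10 [] 61 33 5 0 1 l = true
  | 0, _ => c33x0x0
  | _ + 1, h => absurd h (by omega)

theorem s33x1 : ∀ l, l < 1 → run3 10 [] 61 33 5 1 1 l = true
  | 0, _ => c33x1x0
  | _ + 1, h => absurd h (by omega)

theorem s33x2 : ∀ l, l < 1 → run3 10 [] 61 33 5 2 1 l = true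
  | 0, _ => c33x2x0
  | _ + 1, h => absurd h (by omega)

theorem s33x3 : ∀ l, l < 1 → run3 10 [] 61 33 5 3 1 l = true
  | 0, _ => c33x3x0
  | _ + 1, h => absurd h (by omega)

theorem s33x4 : ∀ l, l < 1 → run3 10 [] 61 33 5 4 1 l = true
  | 0, _ => c33x4x0
  | _ + 1, h => absurd h (by omega)

theorem r33 : ∀ j, j < 5 → ∃ n3, 0 < n3 ∧ ∀ l, l < n3 → run3 10 [] 61 33 5 j n3 l = true
  | 0, _ => ⟨1, by decide, s33x0⟩
  | 1, _ => ⟨1, by decide, s33x1⟩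
  | 2, _ => ⟨1, by decide, s33x2⟩
  | 3, _ => ⟨1, by decide, s33x3⟩
  | 4, _ => ⟨1, by decide, s33x4⟩
  | _ + 5, h => absurd h (by omega)

theorem s34x0 : ∀ l, l < 1 → run3 10 [] 61 34 3 0 1 l = true
  | 0, _ => c34x0x0
  | _ + 1, h => absurd h (by omega)

theorem s34x1 : ∀ l, l < 1 → run3 10 [] 61 34 3 1 1 l = true
  | 0, _ => c34x1x0
  | _ + 1, h => absurd h (by omega)

theorem s34x2 : ∀ l, l < 1 → run3 10 [] 61 34 3 2 1 l = true
  | 0, _ => c34x2x0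
  | _ + 1, h => absurd h (by omega)

theorem r34 : ∀ j, j < 3 → ∃ n3, 0 < n3 ∧ ∀ l, l < n3 → run3 10 [] 61 34 3 j n3 l = true
  | 0, _ => ⟨1, by decide, s34x0⟩
  | 1, _ => ⟨1, by decide, s34x1⟩
  | 2, _ => ⟨1, by decide, s34x2⟩
  | _ + 3, h => absurd h (by omega)

theorem s35x0 : ∀ l, l < 1 → run3 10 [] 61 35 3 0 1 l = true
  | 0, _ => c35x0x0
  | _ + 1, h => absurd h (by omega)

theorem s35x1 : ∀ l, l < 1 → run3 10 [] 61 35 3 1 1 l = true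
  | 0, _ => c35x1x0
  | _ + 1, h => absurd h (by omega)

theorem s35x2 : ∀ l, l < 1 → run3 10 [] 61 35 3 2 1 l = true
  | 0, _ => c35x2x0
  | _ + 1, h => absurd h (by omega)

theorem r35 : ∀ j, j < 3 → ∃ n3, 0 < n3 ∧ ∀ l, l < n3 → run3 10 [] 61 35 3 j n3 l = true
  | 0, _ => ⟨1, by decide, s35x0⟩
  | 1, _ => ⟨1, by decide, s35x1⟩
  | 2, _ => ⟨1, by decide, s35x2⟩
  | _ + 3, h => absurd h (by omega)

theorem s36x0 : ∀ l, l < 1 → run3 10 [] 61 36 1 0 1 l = true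
  | 0, _ => c36x0x0
  | _ + 1, h => absurd h (by omega)

theorem r36 : ∀ j, j < 1 → ∃ n3, 0 < n3 ∧ ∀ l, l < n3 → run3 10 [] 61 36 1 j n3 l = true
  | 0, _ => ⟨1, by decide, s36x0⟩
  | _ + 1, h => absurd h (by omega)

theorem s37x0 : ∀ l, l < 1 → run3 10 [] 61 37 3 0 1 l = true
  | 0, _ => c37x0x0
  | _ + 1, h => absurd h (by omega)

theorem s37x1 : ∀ l, l < 1 → run3 10 [] 61 37 3 1 1 l = true
  | 0, _ => c37x1x0
  | _ + 1, h => absurd h (by omega)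

theorem s37x2 : ∀ l, l < 1 → run3 10 [] 61 37 3 2 1 l = true
  | 0, _ => c37x2x0
  | _ + 1, h => absurd h (by omega)

theorem r37 : ∀ j, j < 3 → ∃ n3, 0 < n3 ∧ ∀ l, l < n3 → run3 10 [] 61 37 3 j n3 l = true
  | 0, _ => ⟨1, by decide, s37x0⟩
  | 1, _ => ⟨1, by decide, s37x1⟩
  | 2, _ => ⟨1, by decide, s37x2⟩
  | _ + 3, h => absurd h (by omega)

theorem s38x0 : ∀ l, l < 1 → run3 10 [] 61 38 1 0 1 l = true
  | 0, _ => c38x0x0
  | _ + 1, h => absurd h (by omega)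

theorem r38 : ∀ j, j < 1 → ∃ n3, 0 < n3 ∧ ∀ l, l < n3 → run3 10 [] 61 38 1 j n3 l = true
  | 0, _ => ⟨1, by decide, s38x0⟩
  | _ + 1, h => absurd h (by omega)

theorem s39x0 : ∀ l, l < 1 → run3 10 [] 61 39 3 0 1 l = true
  | 0, _ => c39x0x0
  | _ + 1, h => absurd h (by omega)

theorem s39x1 : ∀ l, l < 1 → run3 10 [] 61 39 3 1 1 l = true
  | 0, _ => c39x1x0
  | _ + 1, h => absurd h (by omega)

theorem s39x2 : ∀ l, l < 1 → run3 10 [] 61 39 3 2 1 l = true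
  | 0, _ => c39x2x0
  | _ + 1, h => absurd h (by omega)

theorem r39 : ∀ j, j < 3 → ∃ n3, 0 < n3 ∧ ∀ l, l < n3 → run3 10 [] 61 39 3 j n3 l = true
  | 0, _ => ⟨1, by decide, s39x0⟩
  | 1, _ => ⟨1, by decide, s39x1⟩
  | 2, _ => ⟨1, by decide, s39x2⟩
  | _ + 3, h => absurd h (by omega)

theorem s40x0 : ∀ l, l < 1 → run3 10 [] 61 40 21 0 1 l = true
  | 0, _ => c40x0x0
  | _ + 1, h => absurd h (by omega)

theorem s40x1 : ∀ l, l < 5 → run3 10 [] 61 40 21 1 5 l = true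
  | 0, _ => c40x1x0
  | 1, _ => c40x1x1
  | 2, _ => c40x1x2
  | 3, _ => c40x1x3
  | 4, _ => c40x1x4
  | _ + 5, h => absurd h (by omega)

theorem s40x2 : ∀ l, l < 7 → run3 10 [] 61 40 21 2 7 l = true
  | 0, _ => c40x2x0
  | 1, _ => c40x2x1
  | 2, _ => c40x2x2
  | 3, _ => c40x2x3
  | 4, _ => c40x2x4
  | 5, _ => c40x2x5
  | 6, _ => c40x2x6
  | _ + 7, h => absurd h (by omega)

theorem s40x3 : ∀ l, l < 3 → run3 10 [] 61 40 21 3 3 l = true
  | 0, _ => c40x3x0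
  | 1, _ => c40x3x1
  | 2, _ => c40x3x2
  | _ + 3, h => absurd h (by omega)

theorem s40x4 : ∀ l, l < 1 → run3 10 [] 61 40 21 4 1 l = true
  | 0, _ => c40x4x0
  | _ + 1, h => absurd h (by omega)

theorem s40x5 : ∀ l, l < 1 → run3 10 [] 61 40 21 5 1 l = true
  | 0, _ => c40x5x0
  | _ + 1, h => absurd h (by omega)

theorem s40x6 : ∀ l, l < 1 → run3 10 [] 61 40 21 6 1 l = true
  | 0, _ => c40x6x0
  | _ + 1, h => absurd h (by omega)

theorem s40x7 : ∀ l, l < 1 → run3 10 [] 61 40 21 7 1 l = true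
  | 0, _ => c40x7x0
  | _ + 1, h => absurd h (by omega)

theorem s40x8 : ∀ l, l < 3 → run3 10 [] 61 40 21 8 3 l = true
  | 0, _ => c40x8x0
  | 1, _ => c40x8x1
  | 2, _ => c40x8x2
  | _ + 3, h => absurd h (by omega)

theorem s40x9 : ∀ l, l < 1 → run3 10 [] 61 40 21 9 1 l = true
  | 0, _ => c40x9x0
  | _ + 1, h => absurd h (by omega)

theorem s40x10 : ∀ l, l < 1 → run3 10 [] 61 40 21 10 1 l = true
  | 0, _ => c40x10x0
  | _ + 1, h => absurd h (by omega)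

theorem s40x11 : ∀ l, l < 1 → run3 10 [] 61 40 21 11 1 l = true
  | 0, _ => c40x11x0
  | _ + 1, h => absurd h (by omega)

theorem s40x12 : ∀ l, l < 1 → run3 10 [] 61 40 21 12 1 l = true
  | 0, _ => c40x12x0
  | _ + 1, h => absurd h (by omega)

theorem s40x13 : ∀ l, l < 1 → run3 10 [] 61 40 21 13 1 l = true
  | 0, _ => c40x13x0
  | _ + 1, h => absurd h (by omega)

theorem s40x14 : ∀ l, l < 3 → run3 10 [] 61 40 21 14 3 l = true
  | 0, _ => c40x14x0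
  | 1, _ => c40x14x1
  | 2, _ => c40x14x2
  | _ + 3, h => absurd h (by omega)

theorem s40x15 : ∀ l, l < 1 → run3 10 [] 61 40 21 15 1 l = true
  | 0, _ => c40x15x0
  | _ + 1, h => absurd h (by omega)

theorem s40x16 : ∀ l, l < 1 → run3 10 [] 61 40 21 16 1 l = true
  | 0, _ => c40x16x0
  | _ + 1, h => absurd h (by omega)

theorem s40x17 : ∀ l, l < 1 → run3 10 [] 61 40 21 17 1 l = true
  | 0, _ => c40x17x0
  | _ + 1, h => absurd h (by omega)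

theorem s40x18 : ∀ l, l < 1 → run3 10 [] 61 40 21 18 1 l = true
  | 0, _ => c40x18x0
  | _ + 1, h => absurd h (by omega)

theorem s40x19 : ∀ l, l < 1 → run3 10 [] 61 40 21 19 1 l = true
  | 0, _ => c40x19x0
  | _ + 1, h => absurd h (by omega)

theorem s40x20 : ∀ l, l < 1 → run3 10 [] 61 40 21 20 1 l = true
  | 0, _ => c40x20x0
  | _ + 1, h => absurd h (by omega)

theorem r40 : ∀ j, j < 21 → ∃ n3, 0 < n3 ∧ ∀ l, l < n3 → run3 10 [] 61 40 21 j n3 l = true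
  | 0, _ => ⟨1, by decide, s40x0⟩
  | 1, _ => ⟨5, by decide, s40x1⟩
  | 2, _ => ⟨7, by decide, s40x2⟩
  | 3, _ => ⟨3, by decide, s40x3⟩
  | 4, _ => ⟨1, by decide, s40x4⟩
  | 5, _ => ⟨1, by decide, s40x5⟩
  | 6, _ => ⟨1, by decide, s40x6⟩
  | 7, _ => ⟨1, by decide, s40x7⟩
  | 8, _ => ⟨3, by decide, s40x8⟩
  | 9, _ => ⟨1, by decide, s40x9⟩
  | 10, _ => ⟨1, by decide, s40x10⟩
  | 11, _ => ⟨1, by decide, s40x11⟩
  | 12, _ => ⟨1, by decide, s40x12⟩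
  | 13, _ => ⟨1, by decide, s40x13⟩
  | 14, _ => ⟨3, by decide, s40x14⟩
  | 15, _ => ⟨1, by decide, s40x15⟩
  | 16, _ => ⟨1, by decide, s40x16⟩
  | 17, _ => ⟨1, by decide, s40x17⟩
  | 18, _ => ⟨1, by decide, s40x18⟩
  | 19, _ => ⟨1, by decide, s40x19⟩
  | 20, _ => ⟨1, by decide, s40x20⟩
  | _ + 21, h => absurd h (by omega)

theorem s41x0 : ∀ l, l < 1 → run3 10 [] 61 41 17 0 1 l = true
  | 0, _ => c41x0x0
  | _ + 1, h => absurd h (by omega)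

theorem s41x1 : ∀ l, l < 1 → run3 10 [] 61 41 17 1 1 l = true
  | 0, _ => c41x1x0
  | _ + 1, h => absurd h (by omega)

theorem s41x2 : ∀ l, l < 1 → run3 10 [] 61 41 17 2 1 l = true
  | 0, _ => c41x2x0
  | _ + 1, h => absurd h (by omega)

theorem s41x3 : ∀ l, l < 3 → run3 10 [] 61 41 17 3 3 l = true
  | 0, _ => c41x3x0
  | 1, _ => c41x3x1
  | 2, _ => c41x3x2
  | _ + 3, h => absurd h (by omega)

theorem s41x4 : ∀ l, l < 1 → run3 10 [] 61 41 17 4 1 l = true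
  | 0, _ => c41x4x0
  | _ + 1, h => absurd h (by omega)

theorem s41x5 : ∀ l, l < 1 → run3 10 [] 61 41 17 5 1 l = true
  | 0, _ => c41x5x0
  | _ + 1, h => absurd h (by omega)

theorem s41x6 : ∀ l, l < 1 → run3 10 [] 61 41 17 6 1 l = true
  | 0, _ => c41x6x0
  | _ + 1, h => absurd h (by omega)

theorem s41x7 : ∀ l, l < 3 → run3 10 [] 61 41 17 7 3 l = true
  | 0, _ => c41x7x0
  | 1, _ => c41x7x1
  | 2, _ => c41x7x2
  | _ + 3, h => absurd h (by omega)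

theorem s41x8 : ∀ l, l < 1 → run3 10 [] 61 41 17 8 1 l = true
  | 0, _ => c41x8x0
  | _ + 1, h => absurd h (by omega)

theorem s41x9 : ∀ l, l < 3 → run3 10 [] 61 41 17 9 3 l = true
  | 0, _ => c41x9x0
  | 1, _ => c41x9x1
  | 2, _ => c41x9x2
  | _ + 3, h => absurd h (by omega)

theorem s41x10 : ∀ l, l < 1 → run3 10 [] 61 41 17 10 1 l = true
  | 0, _ => c41x10x0
  | _ + 1, h => absurd h (by omega)

theorem s41x11 : ∀ l, l < 1 → run3 10 [] 61 41 17 11 1 l = true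
  | 0, _ => c41x11x0
  | _ + 1, h => absurd h (by omega)

theorem s41x12 : ∀ l, l < 1 → run3 10 [] 61 41 17 12 1 l = true
  | 0, _ => c41x12x0
  | _ + 1, h => absurd h (by omega)

theorem s41x13 : ∀ l, l < 1 → run3 10 [] 61 41 17 13 1 l = true
  | 0, _ => c41x13x0
  | _ + 1, h => absurd h (by omega)

theorem s41x14 : ∀ l, l < 1 → run3 10 [] 61 41 17 14 1 l = true
  | 0, _ => c41x14x0
  | _ + 1, h => absurd h (by omega)

theorem s41x15 : ∀ l, l < 1 → run3 10 [] 61 41 17 15 1 l = true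
  | 0, _ => c41x15x0
  | _ + 1, h => absurd h (by omega)

theorem s41x16 : ∀ l, l < 1 → run3 10 [] 61 41 17 16 1 l = true
  | 0, _ => c41x16x0
  | _ + 1, h => absurd h (by omega)

theorem r41 : ∀ j, j < 17 → ∃ n3, 0 < n3 ∧ ∀ l, l < n3 → run3 10 [] 61 41 17 j n3 l = true
  | 0, _ => ⟨1, by decide, s41x0⟩
  | 1, _ => ⟨1, by decide, s41x1⟩
  | 2, _ => ⟨1, by decide, s41x2⟩
  | 3, _ => ⟨3, by decide, s41x3⟩
  | 4, _ => ⟨1, by decide, s41x4⟩
  | 5, _ => ⟨1, by decide, s41x5⟩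
  | 6, _ => ⟨1, by decide, s41x6⟩
  | 7, _ => ⟨3, by decide, s41x7⟩
  | 8, _ => ⟨1, by decide, s41x8⟩
  | 9, _ => ⟨3, by decide, s41x9⟩
  | 10, _ => ⟨1, by decide, s41x10⟩
  | 11, _ => ⟨1, by decide, s41x11⟩
  | 12, _ => ⟨1, by decide, s41x12⟩
  | 13, _ => ⟨1, by decide, s41x13⟩
  | 14, _ => ⟨1, by decide, s41x14⟩
  | 15, _ => ⟨1, by decide, s41x15⟩
  | 16, _ => ⟨1, by decide, s41x16⟩
  | _ + 17, h => absurd h (by omega)

theorem s42x0 : ∀ l, l < 1 → run3 10 [] 61 42 57 0 1 l = true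
  | 0, _ => c42x0x0
  | _ + 1, h => absurd h (by omega)

theorem s42x1 : ∀ l, l < 1 → run3 10 [] 61 42 57 1 1 l = true
  | 0, _ => c42x1x0
  | _ + 1, h => absurd h (by omega)

theorem s42x2 : ∀ l, l < 1 → run3 10 [] 61 42 57 2 1 l = true
  | 0, _ => c42x2x0
  | _ + 1, h => absurd h (by omega)

theorem s42x3 : ∀ l, l < 3 → run3 10 [] 61 42 57 3 3 l = true
  | 0, _ => c42x3x0
  | 1, _ => c42x3x1
  | 2, _ => c42x3x2
  | _ + 3, h => absurd h (by omega)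

theorem s42x4 : ∀ l, l < 1 → run3 10 [] 61 42 57 4 1 l = true
  | 0, _ => c42x4x0
  | _ + 1, h => absurd h (by omega)

theorem s42x5 : ∀ l, l < 3 → run3 10 [] 61 42 57 5 3 l = true
  | 0, _ => c42x5x0
  | 1, _ => c42x5x1
  | 2, _ => c42x5x2
  | _ + 3, h => absurd h (by omega)

theorem s42x6 : ∀ l, l < 5 → run3 10 [] 61 42 57 6 5 l = true
  | 0, _ => c42x6x0
  | 1, _ => c42x6x1
  | 2, _ => c42x6x2
  | 3, _ => c42x6x3
  | 4, _ => c42x6x4
  | _ + 5, h => absurd h (by omega)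

theorem s42x7 : ∀ l, l < 1 → run3 10 [] 61 42 57 7 1 l = true
  | 0, _ => c42x7x0
  | _ + 1, h => absurd h (by omega)

theorem s42x8 : ∀ l, l < 3 → run3 10 [] 61 42 57 8 3 l = true
  | 0, _ => c42x8x0
  | 1, _ => c42x8x1
  | 2, _ => c42x8x2
  | _ + 3, h => absurd h (by omega)

theorem s42x9 : ∀ l, l < 1 → run3 10 [] 61 42 57 9 1 l = true
  | 0, _ => c42x9x0
  | _ + 1, h => absurd h (by omega)

theorem s42x10 : ∀ l, l < 1 → run3 10 [] 61 42 57 10 1 l = true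
  | 0, _ => c42x10x0
  | _ + 1, h => absurd h (by omega)

theorem s42x11 : ∀ l, l < 1 → run3 10 [] 61 42 57 11 1 l = true
  | 0, _ => c42x11x0
  | _ + 1, h => absurd h (by omega)

theorem s42x12 : ∀ l, l < 1 → run3 10 [] 61 42 57 12 1 l = true
  | 0, _ => c42x12x0
  | _ + 1, h => absurd h (by omega)

theorem s42x13 : ∀ l, l < 1 → run3 10 [] 61 42 57 13 1 l = true
  | 0, _ => c42x13x0
  | _ + 1, h => absurd h (by omega)

theorem s42x14 : ∀ l, l < 3 → run3 10 [] 61 42 57 14 3 l = true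
  | 0, _ => c42x14x0
  | 1, _ => c42x14x1
  | 2, _ => c42x14x2
  | _ + 3, h => absurd h (by omega)

theorem s42x15 : ∀ l, l < 1 → run3 10 [] 61 42 57 15 1 l = true
  | 0, _ => c42x15x0
  | _ + 1, h => absurd h (by omega)

theorem s42x16 : ∀ l, l < 1 → run3 10 [] 61 42 57 16 1 l = true
  | 0, _ => c42x16x0
  | _ + 1, h => absurd h (by omega)

theorem s42x17 : ∀ l, l < 5 → run3 10 [] 61 42 57 17 5 l = true
  | 0, _ => c42x17x0
  | 1, _ => c42x17x1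
  | 2, _ => c42x17x2
  | 3, _ => c42x17x3
  | 4, _ => c42x17x4
  | _ + 5, h => absurd h (by omega)

theorem s42x18 : ∀ l, l < 1 → run3 10 [] 61 42 57 18 1 l = true
  | 0, _ => c42x18x0
  | _ + 1, h => absurd h (by omega)

theorem s42x19 : ∀ l, l < 1 → run3 10 [] 61 42 57 19 1 l = true
  | 0, _ => c42x19x0
  | _ + 1, h => absurd h (by omega)

theorem s42x20 : ∀ l, l < 1 → run3 10 [] 61 42 57 20 1 l = true
  | 0, _ => c42x20x0
  | _ + 1, h => absurd h (by omega)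

theorem s42x21 : ∀ l, l < 1 → run3 10 [] 61 42 57 21 1 l = true
  | 0, _ => c42x21x0
  | _ + 1, h => absurd h (by omega)

theorem s42x22 : ∀ l, l < 1 → run3 10 [] 61 42 57 22 1 l = true
  | 0, _ => c42x22x0
  | _ + 1, h => absurd h (by omega)

theorem s42x23 : ∀ l, l < 1 → run3 10 [] 61 42 57 23 1 l = true
  | 0, _ => c42x23x0
  | _ + 1, h => absurd h (by omega)

theorem s42x24 : ∀ l, l < 1 → run3 10 [] 61 42 57 24 1 l = true
  | 0, _ => c42x24x0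
  | _ + 1, h => absurd h (by omega)

theorem s42x25 : ∀ l, l < 1 → run3 10 [] 61 42 57 25 1 l = true
  | 0, _ => c42x25x0
  | _ + 1, h => absurd h (by omega)

theorem s42x26 : ∀ l, l < 1 → run3 10 [] 61 42 57 26 1 l = true
  | 0, _ => c42x26x0
  | _ + 1, h => absurd h (by omega)

theorem s42x27 : ∀ l, l < 1 → run3 10 [] 61 42 57 27 1 l = true
  | 0, _ => c42x27x0
  | _ + 1, h => absurd h (by omega)

theorem s42x28 : ∀ l, l < 1 → run3 10 [] 61 42 57 28 1 l = true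
  | 0, _ => c42x28x0
  | _ + 1, h => absurd h (by omega)

theorem s42x29 : ∀ l, l < 1 → run3 10 [] 61 42 57 29 1 l = true
  | 0, _ => c42x29x0
  | _ + 1, h => absurd h (by omega)

theorem s42x30 : ∀ l, l < 1 → run3 10 [] 61 42 57 30 1 l = true
  | 0, _ => c42x30x0
  | _ + 1, h => absurd h (by omega)

theorem s42x31 : ∀ l, l < 1 → run3 10 [] 61 42 57 31 1 l = true
  | 0, _ => c42x31x0
  | _ + 1, h => absurd h (by omega)

theorem s42x32 : ∀ l, l < 1 → run3 10 [] 61 42 57 32 1 l = true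
  | 0, _ => c42x32x0
  | _ + 1, h => absurd h (by omega)

theorem s42x33 : ∀ l, l < 3 → run3 10 [] 61 42 57 33 3 l = true
  | 0, _ => c42x33x0
  | 1, _ => c42x33x1
  | 2, _ => c42x33x2
  | _ + 3, h => absurd h (by omega)

theorem s42x34 : ∀ l, l < 3 → run3 10 [] 61 42 57 34 3 l = true
  | 0, _ => c42x34x0
  | 1, _ => c42x34x1
  | 2, _ => c42x34x2
  | _ + 3, h => absurd h (by omega)

theorem s42x35 : ∀ l, l < 1 → run3 10 [] 61 42 57 35 1 l = true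
  | 0, _ => c42x35x0
  | _ + 1, h => absurd h (by omega)

theorem s42x36 : ∀ l, l < 1 → run3 10 [] 61 42 57 36 1 l = true
  | 0, _ => c42x36x0
  | _ + 1, h => absurd h (by omega)

theorem s42x37 : ∀ l, l < 1 → run3 10 [] 61 42 57 37 1 l = true
  | 0, _ => c42x37x0
  | _ + 1, h => absurd h (by omega)

theorem s42x38 : ∀ l, l < 1 → run3 10 [] 61 42 57 38 1 l = true
  | 0, _ => c42x38x0
  | _ + 1, h => absurd h (by omega)

theorem s42x39 : ∀ l, l < 1 → run3 10 [] 61 42 57 39 1 l = true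
  | 0, _ => c42x39x0
  | _ + 1, h => absurd h (by omega)

theorem s42x40 : ∀ l, l < 5 → run3 10 [] 61 42 57 40 5 l = true
  | 0, _ => c42x40x0
  | 1, _ => c42x40x1
  | 2, _ => c42x40x2
  | 3, _ => c42x40x3
  | 4, _ => c42x40x4
  | _ + 5, h => absurd h (by omega)

theorem s42x41 : ∀ l, l < 1 → run3 10 [] 61 42 57 41 1 l = true
  | 0, _ => c42x41x0
  | _ + 1, h => absurd h (by omega)

theorem s42x42 : ∀ l, l < 1 → run3 10 [] 61 42 57 42 1 l = true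
  | 0, _ => c42x42x0
  | _ + 1, h => absurd h (by omega)

theorem s42x43 : ∀ l, l < 3 → run3 10 [] 61 42 57 43 3 l = true
  | 0, _ => c42x43x0
  | 1, _ => c42x43x1
  | 2, _ => c42x43x2
  | _ + 3, h => absurd h (by omega)

theorem s42x44 : ∀ l, l < 1 → run3 10 [] 61 42 57 44 1 l = true
  | 0, _ => c42x44x0
  | _ + 1, h => absurd h (by omega)

theorem s42x45 : ∀ l, l < 1 → run3 10 [] 61 42 57 45 1 l = true
  | 0, _ => c42x45x0
  | _ + 1, h => absurd h (by omega)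

theorem s42x46 : ∀ l, l < 1 → run3 10 [] 61 42 57 46 1 l = true
  | 0, _ => c42x46x0
  | _ + 1, h => absurd h (by omega)

theorem s42x47 : ∀ l, l < 1 → run3 10 [] 61 42 57 47 1 l = true
  | 0, _ => c42x47x0
  | _ + 1, h => absurd h (by omega)

theorem s42x48 : ∀ l, l < 1 → run3 10 [] 61 42 57 48 1 l = true
  | 0, _ => c42x48x0
  | _ + 1, h => absurd h (by omega)

theorem s42x49 : ∀ l, l < 1 → run3 10 [] 61 42 57 49 1 l = true
  | 0, _ => c42x49x0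
  | _ + 1, h => absurd h (by omega)

theorem s42x50 : ∀ l, l < 1 → run3 10 [] 61 42 57 50 1 l = true
  | 0, _ => c42x50x0
  | _ + 1, h => absurd h (by omega)

theorem s42x51 : ∀ l, l < 1 → run3 10 [] 61 42 57 51 1 l = true
  | 0, _ => c42x51x0
  | _ + 1, h => absurd h (by omega)

theorem s42x52 : ∀ l, l < 1 → run3 10 [] 61 42 57 52 1 l = true
  | 0, _ => c42x52x0
  | _ + 1, h => absurd h (by omega)

theorem s42x53 : ∀ l, l < 1 → run3 10 [] 61 42 57 53 1 l = true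
  | 0, _ => c42x53x0
  | _ + 1, h => absurd h (by omega)

theorem s42x54 : ∀ l, l < 9 → run3 10 [] 61 42 57 54 9 l = true
  | 0, _ => c42x54x0
  | 1, _ => c42x54x1
  | 2, _ => c42x54x2
  | 3, _ => c42x54x3
  | 4, _ => c42x54x4
  | 5, _ => c42x54x5
  | 6, _ => c42x54x6
  | 7, _ => c42x54x7
  | 8, _ => c42x54x8
  | _ + 9, h => absurd h (by omega)

theorem s42x55 : ∀ l, l < 9 → run3 10 [] 61 42 57 55 9 l = true
  | 0, _ => c42x55x0
  | 1, _ => c42x55x1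
  | 2, _ => c42x55x2
  | 3, _ => c42x55x3
  | 4, _ => c42x55x4
  | 5, _ => c42x55x5
  | 6, _ => c42x55x6
  | 7, _ => c42x55x7
  | 8, _ => c42x55x8
  | _ + 9, h => absurd h (by omega)

theorem s42x56 : ∀ l, l < 1 → run3 10 [] 61 42 57 56 1 l = true
  | 0, _ => c42x56x0
  | _ + 1, h => absurd h (by omega)

theorem r42 : ∀ j, j < 57 → ∃ n3, 0 < n3 ∧ ∀ l, l < n3 → run3 10 [] 61 42 57 j n3 l = true
  | 0, _ => ⟨1, by decide, s42x0⟩
  | 1, _ => ⟨1, by decide, s42x1⟩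
  | 2, _ => ⟨1, by decide, s42x2⟩
  | 3, _ => ⟨3, by decide, s42x3⟩
  | 4, _ => ⟨1, by decide, s42x4⟩
  | 5, _ => ⟨3, by decide, s42x5⟩
  | 6, _ => ⟨5, by decide, s42x6⟩
  | 7, _ => ⟨1, by decide, s42x7⟩
  | 8, _ => ⟨3, by decide, s42x8⟩
  | 9, _ => ⟨1, by decide, s42x9⟩
  | 10, _ => ⟨1, by decide, s42x10⟩
  | 11, _ => ⟨1, by decide, s42x11⟩
  | 12, _ => ⟨1, by decide, s42x12⟩
  | 13, _ => ⟨1, by decide, s42x13⟩
  | 14, _ => ⟨3, by decide, s42x14⟩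
  | 15, _ => ⟨1, by decide, s42x15⟩
  | 16, _ => ⟨1, by decide, s42x16⟩
  | 17, _ => ⟨5, by decide, s42x17⟩
  | 18, _ => ⟨1, by decide, s42x18⟩
  | 19, _ => ⟨1, by decide, s42x19⟩
  | 20, _ => ⟨1, by decide, s42x20⟩
  | 21, _ => ⟨1, by decide, s42x21⟩
  | 22, _ => ⟨1, by decide, s42x22⟩
  | 23, _ => ⟨1, by decide, s42x23⟩
  | 24, _ => ⟨1, by decide, s42x24⟩
  | 25, _ => ⟨1, by decide, s42x25⟩
  | 26, _ => ⟨1, by decide, s42x26⟩
  | 27, _ => ⟨1, by decide, s42x27⟩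
  | 28, _ => ⟨1, by decide, s42x28⟩
  | 29, _ => ⟨1, by decide, s42x29⟩
  | 30, _ => ⟨1, by decide, s42x30⟩
  | 31, _ => ⟨1, by decide, s42x31⟩
  | 32, _ => ⟨1, by decide, s42x32⟩
  | 33, _ => ⟨3, by decide, s42x33⟩
  | 34, _ => ⟨3, by decide, s42x34⟩
  | 35, _ => ⟨1, by decide, s42x35⟩
  | 36, _ => ⟨1, by decide, s42x36⟩
  | 37, _ => ⟨1, by decide, s42x37⟩
  | 38, _ => ⟨1, by decide, s42x38⟩
  | 39, _ => ⟨1, by decide, s42x39⟩
  | 40, _ => ⟨5, by decide, s42x40⟩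
  | 41, _ => ⟨1, by decide, s42x41⟩
  | 42, _ => ⟨1, by decide, s42x42⟩
  | 43, _ => ⟨3, by decide, s42x43⟩
  | 44, _ => ⟨1, by decide, s42x44⟩
  | 45, _ => ⟨1, by decide, s42x45⟩
  | 46, _ => ⟨1, by decide, s42x46⟩
  | 47, _ => ⟨1, by decide, s42x47⟩
  | 48, _ => ⟨1, by decide, s42x48⟩
  | 49, _ => ⟨1, by decide, s42x49⟩
  | 50, _ => ⟨1, by decide, s42x50⟩
  | 51, _ => ⟨1, by decide, s42x51⟩
  | 52, _ => ⟨1, by decide, s42x52⟩
  | 53, _ => ⟨1, by decide, s42x53⟩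
  | 54, _ => ⟨9, by decide, s42x54⟩
  | 55, _ => ⟨9, by decide, s42x55⟩
  | 56, _ => ⟨1, by decide, s42x56⟩
  | _ + 57, h => absurd h (by omega)

theorem s43x0 : ∀ l, l < 1 → run3 10 [] 61 43 73 0 1 l = true
  | 0, _ => c43x0x0
  | _ + 1, h => absurd h (by omega)

theorem s43x1 : ∀ l, l < 3 → run3 10 [] 61 43 73 1 3 l = true
  | 0, _ => c43x1x0
  | 1, _ => c43x1x1
  | 2, _ => c43x1x2
  | _ + 3, h => absurd h (by omega)

theorem s43x2 : ∀ l, l < 1 → run3 10 [] 61 43 73 2 1 l = true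
  | 0, _ => c43x2x0
  | _ + 1, h => absurd h (by omega)

theorem s43x3 : ∀ l, l < 1 → run3 10 [] 61 43 73 3 1 l = true
  | 0, _ => c43x3x0
  | _ + 1, h => absurd h (by omega)

theorem s43x4 : ∀ l, l < 3 → run3 10 [] 61 43 73 4 3 l = true
  | 0, _ => c43x4x0
  | 1, _ => c43x4x1
  | 2, _ => c43x4x2
  | _ + 3, h => absurd h (by omega)

theorem s43x5 : ∀ l, l < 1 → run3 10 [] 61 43 73 5 1 l = true
  | 0, _ => c43x5x0
  | _ + 1, h => absurd h (by omega)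

theorem s43x6 : ∀ l, l < 1 → run3 10 [] 61 43 73 6 1 l = true
  | 0, _ => c43x6x0
  | _ + 1, h => absurd h (by omega)

theorem s43x7 : ∀ l, l < 1 → run3 10 [] 61 43 73 7 1 l = true
  | 0, _ => c43x7x0
  | _ + 1, h => absurd h (by omega)

theorem s43x8 : ∀ l, l < 3 → run3 10 [] 61 43 73 8 3 l = true
  | 0, _ => c43x8x0
  | 1, _ => c43x8x1
  | 2, _ => c43x8x2
  | _ + 3, h => absurd h (by omega)

theorem s43x9 : ∀ l, l < 1 → run3 10 [] 61 43 73 9 1 l = true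
  | 0, _ => c43x9x0
  | _ + 1, h => absurd h (by omega)

theorem s43x10 : ∀ l, l < 3 → run3 10 [] 61 43 73 10 3 l = true
  | 0, _ => c43x10x0
  | 1, _ => c43x10x1
  | 2, _ => c43x10x2
  | _ + 3, h => absurd h (by omega)

theorem s43x11 : ∀ l, l < 1 → run3 10 [] 61 43 73 11 1 l = true
  | 0, _ => c43x11x0
  | _ + 1, h => absurd h (by omega)

theorem s43x12 : ∀ l, l < 1 → run3 10 [] 61 43 73 12 1 l = true
  | 0, _ => c43x12x0
  | _ + 1, h => absurd h (by omega)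

theorem s43x13 : ∀ l, l < 1 → run3 10 [] 61 43 73 13 1 l = true
  | 0, _ => c43x13x0
  | _ + 1, h => absurd h (by omega)

theorem s43x14 : ∀ l, l < 1 → run3 10 [] 61 43 73 14 1 l = true
  | 0, _ => c43x14x0
  | _ + 1, h => absurd h (by omega)

theorem s43x15 : ∀ l, l < 1 → run3 10 [] 61 43 73 15 1 l = true
  | 0, _ => c43x15x0
  | _ + 1, h => absurd h (by omega)

theorem s43x16 : ∀ l, l < 1 → run3 10 [] 61 43 73 16 1 l = true
  | 0, _ => c43x16x0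
  | _ + 1, h => absurd h (by omega)

theorem s43x17 : ∀ l, l < 1 → run3 10 [] 61 43 73 17 1 l = true
  | 0, _ => c43x17x0
  | _ + 1, h => absurd h (by omega)

theorem s43x18 : ∀ l, l < 1 → run3 10 [] 61 43 73 18 1 l = true
  | 0, _ => c43x18x0
  | _ + 1, h => absurd h (by omega)

theorem s43x19 : ∀ l, l < 3 → run3 10 [] 61 43 73 19 3 l = true
  | 0, _ => c43x19x0
  | 1, _ => c43x19x1
  | 2, _ => c43x19x2
  | _ + 3, h => absurd h (by omega)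

theorem s43x20 : ∀ l, l < 1 → run3 10 [] 61 43 73 20 1 l = true
  | 0, _ => c43x20x0
  | _ + 1, h => absurd h (by omega)

theorem s43x21 : ∀ l, l < 1 → run3 10 [] 61 43 73 21 1 l = true
  | 0, _ => c43x21x0
  | _ + 1, h => absurd h (by omega)

theorem s43x22 : ∀ l, l < 7 → run3 10 [] 61 43 73 22 7 l = true
  | 0, _ => c43x22x0
  | 1, _ => c43x22x1
  | 2, _ => c43x22x2
  | 3, _ => c43x22x3
  | 4, _ => c43x22x4
  | 5, _ => c43x22x5
  | 6, _ => c43x22x6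
  | _ + 7, h => absurd h (by omega)

theorem s43x23 : ∀ l, l < 3 → run3 10 [] 61 43 73 23 3 l = true
  | 0, _ => c43x23x0
  | 1, _ => c43x23x1
  | 2, _ => c43x23x2
  | _ + 3, h => absurd h (by omega)

theorem s43x24 : ∀ l, l < 1 → run3 10 [] 61 43 73 24 1 l = true
  | 0, _ => c43x24x0
  | _ + 1, h => absurd h (by omega)

theorem s43x25 : ∀ l, l < 1 → run3 10 [] 61 43 73 25 1 l = true
  | 0, _ => c43x25x0
  | _ + 1, h => absurd h (by omega)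

theorem s43x26 : ∀ l, l < 3 → run3 10 [] 61 43 73 26 3 l = true
  | 0, _ => c43x26x0
  | 1, _ => c43x26x1
  | 2, _ => c43x26x2
  | _ + 3, h => absurd h (by omega)

theorem s43x27 : ∀ l, l < 1 → run3 10 [] 61 43 73 27 1 l = true
  | 0, _ => c43x27x0
  | _ + 1, h => absurd h (by omega)

theorem s43x28 : ∀ l, l < 1 → run3 10 [] 61 43 73 28 1 l = true
  | 0, _ => c43x28x0
  | _ + 1, h => absurd h (by omega)

theorem s43x29 : ∀ l, l < 1 → run3 10 [] 61 43 73 29 1 l = true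
  | 0, _ => c43x29x0
  | _ + 1, h => absurd h (by omega)

theorem s43x30 : ∀ l, l < 1 → run3 10 [] 61 43 73 30 1 l = true
  | 0, _ => c43x30x0
  | _ + 1, h => absurd h (by omega)

theorem s43x31 : ∀ l, l < 1 → run3 10 [] 61 43 73 31 1 l = true
  | 0, _ => c43x31x0
  | _ + 1, h => absurd h (by omega)

theorem s43x32 : ∀ l, l < 1 → run3 10 [] 61 43 73 32 1 l = true
  | 0, _ => c43x32x0
  | _ + 1, h => absurd h (by omega)

theorem s43x33 : ∀ l, l < 1 → run3 10 [] 61 43 73 33 1 l = true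
  | 0, _ => c43x33x0
  | _ + 1, h => absurd h (by omega)

theorem s43x34 : ∀ l, l < 1 → run3 10 [] 61 43 73 34 1 l = true
  | 0, _ => c43x34x0
  | _ + 1, h => absurd h (by omega)

theorem s43x35 : ∀ l, l < 1 → run3 10 [] 61 43 73 35 1 l = true
  | 0, _ => c43x35x0
  | _ + 1, h => absurd h (by omega)

theorem s43x36 : ∀ l, l < 1 → run3 10 [] 61 43 73 36 1 l = true
  | 0, _ => c43x36x0
  | _ + 1, h => absurd h (by omega)

theorem s43x37 : ∀ l, l < 1 → run3 10 [] 61 43 73 37 1 l = true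
  | 0, _ => c43x37x0
  | _ + 1, h => absurd h (by omega)

theorem s43x38 : ∀ l, l < 1 → run3 10 [] 61 43 73 38 1 l = true
  | 0, _ => c43x38x0
  | _ + 1, h => absurd h (by omega)

theorem s43x39 : ∀ l, l < 1 → run3 10 [] 61 43 73 39 1 l = true
  | 0, _ => c43x39x0
  | _ + 1, h => absurd h (by omega)

theorem s43x40 : ∀ l, l < 1 → run3 10 [] 61 43 73 40 1 l = true
  | 0, _ => c43x40x0
  | _ + 1, h => absurd h (by omega)

theorem s43x41 : ∀ l, l < 3 → run3 10 [] 61 43 73 41 3 l = true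
  | 0, _ => c43x41x0
  | 1, _ => c43x41x1
  | 2, _ => c43x41x2
  | _ + 3, h => absurd h (by omega)

theorem s43x42 : ∀ l, l < 1 → run3 10 [] 61 43 73 42 1 l = true
  | 0, _ => c43x42x0
  | _ + 1, h => absurd h (by omega)

theorem s43x43 : ∀ l, l < 1 → run3 10 [] 61 43 73 43 1 l = true
  | 0, _ => c43x43x0
  | _ + 1, h => absurd h (by omega)

theorem s43x44 : ∀ l, l < 1 → run3 10 [] 61 43 73 44 1 l = true
  | 0, _ => c43x44x0
  | _ + 1, h => absurd h (by omega)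

theorem s43x45 : ∀ l, l < 1 → run3 10 [] 61 43 73 45 1 l = true
  | 0, _ => c43x45x0
  | _ + 1, h => absurd h (by omega)

theorem s43x46 : ∀ l, l < 3 → run3 10 [] 61 43 73 46 3 l = true
  | 0, _ => c43x46x0
  | 1, _ => c43x46x1
  | 2, _ => c43x46x2
  | _ + 3, h => absurd h (by omega)

theorem s43x47 : ∀ l, l < 1 → run3 10 [] 61 43 73 47 1 l = true
  | 0, _ => c43x47x0
  | _ + 1, h => absurd h (by omega)

theorem s43x48 : ∀ l, l < 1 → run3 10 [] 61 43 73 48 1 l = true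
  | 0, _ => c43x48x0
  | _ + 1, h => absurd h (by omega)

theorem s43x49 : ∀ l, l < 1 → run3 10 [] 61 43 73 49 1 l = true
  | 0, _ => c43x49x0
  | _ + 1, h => absurd h (by omega)

theorem s43x50 : ∀ l, l < 1 → run3 10 [] 61 43 73 50 1 l = true
  | 0, _ => c43x50x0
  | _ + 1, h => absurd h (by omega)

theorem s43x51 : ∀ l, l < 1 → run3 10 [] 61 43 73 51 1 l = true
  | 0, _ => c43x51x0
  | _ + 1, h => absurd h (by omega)

theorem s43x52 : ∀ l, l < 1 → run3 10 [] 61 43 73 52 1 l = true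
  | 0, _ => c43x52x0
  | _ + 1, h => absurd h (by omega)

theorem s43x53 : ∀ l, l < 1 → run3 10 [] 61 43 73 53 1 l = true
  | 0, _ => c43x53x0
  | _ + 1, h => absurd h (by omega)

theorem s43x54 : ∀ l, l < 1 → run3 10 [] 61 43 73 54 1 l = true
  | 0, _ => c43x54x0
  | _ + 1, h => absurd h (by omega)

theorem s43x55 : ∀ l, l < 1 → run3 10 [] 61 43 73 55 1 l = true
  | 0, _ => c43x55x0
  | _ + 1, h => absurd h (by omega)

theorem s43x56 : ∀ l, l < 1 → run3 10 [] 61 43 73 56 1 l = true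
  | 0, _ => c43x56x0
  | _ + 1, h => absurd h (by omega)

theorem s43x57 : ∀ l, l < 1 → run3 10 [] 61 43 73 57 1 l = true
  | 0, _ => c43x57x0
  | _ + 1, h => absurd h (by omega)

theorem s43x58 : ∀ l, l < 1 → run3 10 [] 61 43 73 58 1 l = true
  | 0, _ => c43x58x0
  | _ + 1, h => absurd h (by omega)

theorem s43x59 : ∀ l, l < 3 → run3 10 [] 61 43 73 59 3 l = true
  | 0, _ => c43x59x0
  | 1, _ => c43x59x1
  | 2, _ => c43x59x2
  | _ + 3, h => absurd h (by omega)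

theorem s43x60 : ∀ l, l < 1 → run3 10 [] 61 43 73 60 1 l = true
  | 0, _ => c43x60x0
  | _ + 1, h => absurd h (by omega)

theorem s43x61 : ∀ l, l < 3 → run3 10 [] 61 43 73 61 3 l = true
  | 0, _ => c43x61x0
  | 1, _ => c43x61x1
  | 2, _ => c43x61x2
  | _ + 3, h => absurd h (by omega)

theorem s43x62 : ∀ l, l < 1 → run3 10 [] 61 43 73 62 1 l = true
  | 0, _ => c43x62x0
  | _ + 1, h => absurd h (by omega)

theorem s43x63 : ∀ l, l < 5 → run3 10 [] 61 43 73 63 5 l = true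
  | 0, _ => c43x63x0
  | 1, _ => c43x63x1
  | 2, _ => c43x63x2
  | 3, _ => c43x63x3
  | 4, _ => c43x63x4
  | _ + 5, h => absurd h (by omega)

theorem s43x64 : ∀ l, l < 9 → run3 10 [] 61 43 73 64 9 l = true
  | 0, _ => c43x64x0
  | 1, _ => c43x64x1
  | 2, _ => c43x64x2
  | 3, _ => c43x64x3
  | 4, _ => c43x64x4
  | 5, _ => c43x64x5
  | 6, _ => c43x64x6
  | 7, _ => c43x64x7
  | 8, _ => c43x64x8
  | _ + 9, h => absurd h (by omega)

theorem s43x65 : ∀ l, l < 1 → run3 10 [] 61 43 73 65 1 l = true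
  | 0, _ => c43x65x0
  | _ + 1, h => absurd h (by omega)

theorem s43x66 : ∀ l, l < 3 → run3 10 [] 61 43 73 66 3 l = true
  | 0, _ => c43x66x0
  | 1, _ => c43x66x1
  | 2, _ => c43x66x2
  | _ + 3, h => absurd h (by omega)

theorem s43x67 : ∀ l, l < 3 → run3 10 [] 61 43 73 67 3 l = true
  | 0, _ => c43x67x0
  | 1, _ => c43x67x1
  | 2, _ => c43x67x2
  | _ + 3, h => absurd h (by omega)

theorem s43x68 : ∀ l, l < 1 → run3 10 [] 61 43 73 68 1 l = true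
  | 0, _ => c43x68x0
  | _ + 1, h => absurd h (by omega)

theorem s43x69 : ∀ l, l < 1 → run3 10 [] 61 43 73 69 1 l = true
  | 0, _ => c43x69x0
  | _ + 1, h => absurd h (by omega)

theorem s43x70 : ∀ l, l < 3 → run3 10 [] 61 43 73 70 3 l = true
  | 0, _ => c43x70x0
  | 1, _ => c43x70x1
  | 2, _ => c43x70x2
  | _ + 3, h => absurd h (by omega)

theorem s43x71 : ∀ l, l < 3 → run3 10 [] 61 43 73 71 3 l = true
  | 0, _ => c43x71x0
  | 1, _ => c43x71x1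
  | 2, _ => c43x71x2
  | _ + 3, h => absurd h (by omega)

theorem s43x72 : ∀ l, l < 1 → run3 10 [] 61 43 73 72 1 l = true
  | 0, _ => c43x72x0
  | _ + 1, h => absurd h (by omega)

theorem r43 : ∀ j, j < 73 → ∃ n3, 0 < n3 ∧ ∀ l, l < n3 → run3 10 [] 61 43 73 j n3 l = true
  | 0, _ => ⟨1, by decide, s43x0⟩
  | 1, _ => ⟨3, by decide, s43x1⟩
  | 2, _ => ⟨1, by decide, s43x2⟩
  | 3, _ => ⟨1, by decide, s43x3⟩
  | 4, _ => ⟨3, by decide, s43x4⟩
  | 5, _ => ⟨1, by decide, s43x5⟩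
  | 6, _ => ⟨1, by decide, s43x6⟩
  | 7, _ => ⟨1, by decide, s43x7⟩
  | 8, _ => ⟨3, by decide, s43x8⟩
  | 9, _ => ⟨1, by decide, s43x9⟩
  | 10, _ => ⟨3, by decide, s43x10⟩
  | 11, _ => ⟨1, by decide, s43x11⟩
  | 12, _ => ⟨1, by decide, s43x12⟩
  | 13, _ => ⟨1, by decide, s43x13⟩
  | 14, _ => ⟨1, by decide, s43x14⟩
  | 15, _ => ⟨1, by decide, s43x15⟩
  | 16, _ => ⟨1, by decide, s43x16⟩
  | 17, _ => ⟨1, by decide, s43x17⟩
  | 18, _ => ⟨1, by decide, s43x18⟩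
  | 19, _ => ⟨3, by decide, s43x19⟩
  | 20, _ => ⟨1, by decide, s43x20⟩
  | 21, _ => ⟨1, by decide, s43x21⟩
  | 22, _ => ⟨7, by decide, s43x22⟩
  | 23, _ => ⟨3, by decide, s43x23⟩
  | 24, _ => ⟨1, by decide, s43x24⟩
  | 25, _ => ⟨1, by decide, s43x25⟩
  | 26, _ => ⟨3, by decide, s43x26⟩
  | 27, _ => ⟨1, by decide, s43x27⟩
  | 28, _ => ⟨1, by decide, s43x28⟩
  | 29, _ => ⟨1, by decide, s43x29⟩
  | 30, _ => ⟨1, by decide, s43x30⟩
  | 31, _ => ⟨1, by decide, s43x31⟩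
  | 32, _ => ⟨1, by decide, s43x32⟩
  | 33, _ => ⟨1, by decide, s43x33⟩
  | 34, _ => ⟨1, by decide, s43x34⟩
  | 35, _ => ⟨1, by decide, s43x35⟩
  | 36, _ => ⟨1, by decide, s43x36⟩
  | 37, _ => ⟨1, by decide, s43x37⟩
  | 38, _ => ⟨1, by decide, s43x38⟩
  | 39, _ => ⟨1, by decide, s43x39⟩
  | 40, _ => ⟨1, by decide, s43x40⟩
  | 41, _ => ⟨3, by decide, s43x41⟩
  | 42, _ => ⟨1, by decide, s43x42⟩
  | 43, _ => ⟨1, by decide, s43x43⟩
  | 44, _ => ⟨1, by decide, s43x44⟩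
  | 45, _ => ⟨1, by decide, s43x45⟩
  | 46, _ => ⟨3, by decide, s43x46⟩
  | 47, _ => ⟨1, by decide, s43x47⟩
  | 48, _ => ⟨1, by decide, s43x48⟩
  | 49, _ => ⟨1, by decide, s43x49⟩
  | 50, _ => ⟨1, by decide, s43x50⟩
  | 51, _ => ⟨1, by decide, s43x51⟩
  | 52, _ => ⟨1, by decide, s43x52⟩
  | 53, _ => ⟨1, by decide, s43x53⟩
  | 54, _ => ⟨1, by decide, s43x54⟩
  | 55, _ => ⟨1, by decide, s43x55⟩
  | 56, _ => ⟨1, by decide, s43x56⟩
  | 57, _ => ⟨1, by decide, s43x57⟩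
  | 58, _ => ⟨1, by decide, s43x58⟩
  | 59, _ => ⟨3, by decide, s43x59⟩
  | 60, _ => ⟨1, by decide, s43x60⟩
  | 61, _ => ⟨3, by decide, s43x61⟩
  | 62, _ => ⟨1, by decide, s43x62⟩
  | 63, _ => ⟨5, by decide, s43x63⟩
  | 64, _ => ⟨9, by decide, s43x64⟩
  | 65, _ => ⟨1, by decide, s43x65⟩
  | 66, _ => ⟨3, by decide, s43x66⟩
  | 67, _ => ⟨3, by decide, s43x67⟩
  | 68, _ => ⟨1, by decide, s43x68⟩
  | 69, _ => ⟨1, by decide, s43x69⟩
  | 70, _ => ⟨3, by decide, s43x70⟩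
  | 71, _ => ⟨3, by decide, s43x71⟩
  | 72, _ => ⟨1, by decide, s43x72⟩
  | _ + 73, h => absurd h (by omega)

theorem s44x0 : ∀ l, l < 1 → run3 10 [] 61 44 7 0 1 l = true
  | 0, _ => c44x0x0
  | _ + 1, h => absurd h (by omega)

theorem s44x1 : ∀ l, l < 1 → run3 10 [] 61 44 7 1 1 l = true
  | 0, _ => c44x1x0
  | _ + 1, h => absurd h (by omega)

theorem s44x2 : ∀ l, l < 3 → run3 10 [] 61 44 7 2 3 l = true
  | 0, _ => c44x2x0
  | 1, _ => c44x2x1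
  | 2, _ => c44x2x2
  | _ + 3, h => absurd h (by omega)

theorem s44x3 : ∀ l, l < 1 → run3 10 [] 61 44 7 3 1 l = true
  | 0, _ => c44x3x0
  | _ + 1, h => absurd h (by omega)

theorem s44x4 : ∀ l, l < 1 → run3 10 [] 61 44 7 4 1 l = true
  | 0, _ => c44x4x0
  | _ + 1, h => absurd h (by omega)

theorem s44x5 : ∀ l, l < 3 → run3 10 [] 61 44 7 5 3 l = true
  | 0, _ => c44x5x0
  | 1, _ => c44x5x1
  | 2, _ => c44x5x2
  | _ + 3, h => absurd h (by omega)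

theorem s44x6 : ∀ l, l < 1 → run3 10 [] 61 44 7 6 1 l = true
  | 0, _ => c44x6x0
  | _ + 1, h => absurd h (by omega)

theorem r44 : ∀ j, j < 7 → ∃ n3, 0 < n3 ∧ ∀ l, l < n3 → run3 10 [] 61 44 7 j n3 l = true
  | 0, _ => ⟨1, by decide, s44x0⟩
  | 1, _ => ⟨1, by decide, s44x1⟩
  | 2, _ => ⟨3, by decide, s44x2⟩
  | 3, _ => ⟨1, by decide, s44x3⟩
  | 4, _ => ⟨1, by decide, s44x4⟩
  | 5, _ => ⟨3, by decide, s44x5⟩
  | 6, _ => ⟨1, by decide, s44x6⟩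
  | _ + 7, h => absurd h (by omega)

theorem s45x0 : ∀ l, l < 1 → run3 10 [] 61 45 7 0 1 l = true
  | 0, _ => c45x0x0
  | _ + 1, h => absurd h (by omega)

theorem s45x1 : ∀ l, l < 1 → run3 10 [] 61 45 7 1 1 l = true
  | 0, _ => c45x1x0
  | _ + 1, h => absurd h (by omega)

theorem s45x2 : ∀ l, l < 1 → run3 10 [] 61 45 7 2 1 l = true
  | 0, _ => c45x2x0
  | _ + 1, h => absurd h (by omega)

theorem s45x3 : ∀ l, l < 1 → run3 10 [] 61 45 7 3 1 l = true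
  | 0, _ => c45x3x0
  | _ + 1, h => absurd h (by omega)

theorem s45x4 : ∀ l, l < 1 → run3 10 [] 61 45 7 4 1 l = true
  | 0, _ => c45x4x0
  | _ + 1, h => absurd h (by omega)

theorem s45x5 : ∀ l, l < 1 → run3 10 [] 61 45 7 5 1 l = true
  | 0, _ => c45x5x0
  | _ + 1, h => absurd h (by omega)

theorem s45x6 : ∀ l, l < 1 → run3 10 [] 61 45 7 6 1 l = true
  | 0, _ => c45x6x0
  | _ + 1, h => absurd h (by omega)

theorem r45 : ∀ j, j < 7 → ∃ n3, 0 < n3 ∧ ∀ l, l < n3 → run3 10 [] 61 45 7 j n3 l = true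
  | 0, _ => ⟨1, by decide, s45x0⟩
  | 1, _ => ⟨1, by decide, s45x1⟩
  | 2, _ => ⟨1, by decide, s45x2⟩
  | 3, _ => ⟨1, by decide, s45x3⟩
  | 4, _ => ⟨1, by decide, s45x4⟩
  | 5, _ => ⟨1, by decide, s45x5⟩
  | 6, _ => ⟨1, by decide, s45x6⟩
  | _ + 7, h => absurd h (by omega)

theorem s46x0 : ∀ l, l < 1 → run3 10 [] 61 46 33 0 1 l = true
  | 0, _ => c46x0x0
  | _ + 1, h => absurd h (by omega)

theorem s46x1 : ∀ l, l < 1 → run3 10 [] 61 46 33 1 1 l = true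
  | 0, _ => c46x1x0
  | _ + 1, h => absurd h (by omega)

theorem s46x2 : ∀ l, l < 1 → run3 10 [] 61 46 33 2 1 l = true
  | 0, _ => c46x2x0
  | _ + 1, h => absurd h (by omega)

theorem s46x3 : ∀ l, l < 1 → run3 10 [] 61 46 33 3 1 l = true
  | 0, _ => c46x3x0
  | _ + 1, h => absurd h (by omega)

theorem s46x4 : ∀ l, l < 3 → run3 10 [] 61 46 33 4 3 l = true
  | 0, _ => c46x4x0
  | 1, _ => c46x4x1
  | 2, _ => c46x4x2
  | _ + 3, h => absurd h (by omega)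

theorem s46x5 : ∀ l, l < 1 → run3 10 [] 61 46 33 5 1 l = true
  | 0, _ => c46x5x0
  | _ + 1, h => absurd h (by omega)

theorem s46x6 : ∀ l, l < 1 → run3 10 [] 61 46 33 6 1 l = true
  | 0, _ => c46x6x0
  | _ + 1, h => absurd h (by omega)

theorem s46x7 : ∀ l, l < 1 → run3 10 [] 61 46 33 7 1 l = true
  | 0, _ => c46x7x0
  | _ + 1, h => absurd h (by omega)

theorem s46x8 : ∀ l, l < 1 → run3 10 [] 61 46 33 8 1 l = true
  | 0, _ => c46x8x0
  | _ + 1, h => absurd h (by omega)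

theorem s46x9 : ∀ l, l < 1 → run3 10 [] 61 46 33 9 1 l = true
  | 0, _ => c46x9x0
  | _ + 1, h => absurd h (by omega)

theorem s46x10 : ∀ l, l < 1 → run3 10 [] 61 46 33 10 1 l = true
  | 0, _ => c46x10x0
  | _ + 1, h => absurd h (by omega)

theorem s46x11 : ∀ l, l < 3 → run3 10 [] 61 46 33 11 3 l = true
  | 0, _ => c46x11x0
  | 1, _ => c46x11x1
  | 2, _ => c46x11x2
  | _ + 3, h => absurd h (by omega)

theorem s46x12 : ∀ l, l < 1 → run3 10 [] 61 46 33 12 1 l = true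
  | 0, _ => c46x12x0
  | _ + 1, h => absurd h (by omega)

theorem s46x13 : ∀ l, l < 1 → run3 10 [] 61 46 33 13 1 l = true
  | 0, _ => c46x13x0
  | _ + 1, h => absurd h (by omega)

theorem s46x14 : ∀ l, l < 1 → run3 10 [] 61 46 33 14 1 l = true
  | 0, _ => c46x14x0
  | _ + 1, h => absurd h (by omega)

theorem s46x15 : ∀ l, l < 1 → run3 10 [] 61 46 33 15 1 l = true
  | 0, _ => c46x15x0
  | _ + 1, h => absurd h (by omega)

theorem s46x16 : ∀ l, l < 3 → run3 10 [] 61 46 33 16 3 l = true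
  | 0, _ => c46x16x0
  | 1, _ => c46x16x1
  | 2, _ => c46x16x2
  | _ + 3, h => absurd h (by omega)

theorem s46x17 : ∀ l, l < 1 → run3 10 [] 61 46 33 17 1 l = true
  | 0, _ => c46x17x0
  | _ + 1, h => absurd h (by omega)

theorem s46x18 : ∀ l, l < 1 → run3 10 [] 61 46 33 18 1 l = true
  | 0, _ => c46x18x0
  | _ + 1, h => absurd h (by omega)

theorem s46x19 : ∀ l, l < 3 → run3 10 [] 61 46 33 19 3 l = true
  | 0, _ => c46x19x0
  | 1, _ => c46x19x1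
  | 2, _ => c46x19x2
  | _ + 3, h => absurd h (by omega)

theorem s46x20 : ∀ l, l < 3 → run3 10 [] 61 46 33 20 3 l = true
  | 0, _ => c46x20x0
  | 1, _ => c46x20x1
  | 2, _ => c46x20x2
  | _ + 3, h => absurd h (by omega)

theorem s46x21 : ∀ l, l < 1 → run3 10 [] 61 46 33 21 1 l = true
  | 0, _ => c46x21x0
  | _ + 1, h => absurd h (by omega)

theorem s46x22 : ∀ l, l < 1 → run3 10 [] 61 46 33 22 1 l = true
  | 0, _ => c46x22x0
  | _ + 1, h => absurd h (by omega)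

theorem s46x23 : ∀ l, l < 1 → run3 10 [] 61 46 33 23 1 l = true
  | 0, _ => c46x23x0
  | _ + 1, h => absurd h (by omega)

theorem s46x24 : ∀ l, l < 1 → run3 10 [] 61 46 33 24 1 l = true
  | 0, _ => c46x24x0
  | _ + 1, h => absurd h (by omega)

theorem s46x25 : ∀ l, l < 1 → run3 10 [] 61 46 33 25 1 l = true
  | 0, _ => c46x25x0
  | _ + 1, h => absurd h (by omega)

theorem s46x26 : ∀ l, l < 3 → run3 10 [] 61 46 33 26 3 l = true
  | 0, _ => c46x26x0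
  | 1, _ => c46x26x1
  | 2, _ => c46x26x2
  | _ + 3, h => absurd h (by omega)

theorem s46x27 : ∀ l, l < 1 → run3 10 [] 61 46 33 27 1 l = true
  | 0, _ => c46x27x0
  | _ + 1, h => absurd h (by omega)

theorem s46x28 : ∀ l, l < 1 → run3 10 [] 61 46 33 28 1 l = true
  | 0, _ => c46x28x0
  | _ + 1, h => absurd h (by omega)

theorem s46x29 : ∀ l, l < 1 → run3 10 [] 61 46 33 29 1 l = true
  | 0, _ => c46x29x0
  | _ + 1, h => absurd h (by omega)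

theorem s46x30 : ∀ l, l < 1 → run3 10 [] 61 46 33 30 1 l = true
  | 0, _ => c46x30x0
  | _ + 1, h => absurd h (by omega)

theorem s46x31 : ∀ l, l < 3 → run3 10 [] 61 46 33 31 3 l = true
  | 0, _ => c46x31x0
  | 1, _ => c46x31x1
  | 2, _ => c46x31x2
  | _ + 3, h => absurd h (by omega)

theorem s46x32 : ∀ l, l < 5 → run3 10 [] 61 46 33 32 5 l = true
  | 0, _ => c46x32x0
  | 1, _ => c46x32x1
  | 2, _ => c46x32x2
  | 3, _ => c46x32x3
  | 4, _ => c46x32x4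
  | _ + 5, h => absurd h (by omega)

theorem r46 : ∀ j, j < 33 → ∃ n3, 0 < n3 ∧ ∀ l, l < n3 → run3 10 [] 61 46 33 j n3 l = true
  | 0, _ => ⟨1, by decide, s46x0⟩
  | 1, _ => ⟨1, by decide, s46x1⟩
  | 2, _ => ⟨1, by decide, s46x2⟩
  | 3, _ => ⟨1, by decide, s46x3⟩
  | 4, _ => ⟨3, by decide, s46x4⟩
  | 5, _ => ⟨1, by decide, s46x5⟩
  | 6, _ => ⟨1, by decide, s46x6⟩
  | 7, _ => ⟨1, by decide, s46x7⟩
  | 8, _ => ⟨1, by decide, s46x8⟩
  | 9, _ => ⟨1, by decide, s46x9⟩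
  | 10, _ => ⟨1, by decide, s46x10⟩
  | 11, _ => ⟨3, by decide, s46x11⟩
  | 12, _ => ⟨1, by decide, s46x12⟩
  | 13, _ => ⟨1, by decide, s46x13⟩
  | 14, _ => ⟨1, by decide, s46x14⟩
  | 15, _ => ⟨1, by decide, s46x15⟩
  | 16, _ => ⟨3, by decide, s46x16⟩
  | 17, _ => ⟨1, by decide, s46x17⟩
  | 18, _ => ⟨1, by decide, s46x18⟩
  | 19, _ => ⟨3, by decide, s46x19⟩
  | 20, _ => ⟨3, by decide, s46x20⟩
  | 21, _ => ⟨1, by decide, s46x21⟩
  | 22, _ => ⟨1, by decide, s46x22⟩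
  | 23, _ => ⟨1, by decide, s46x23⟩
  | 24, _ => ⟨1, by decide, s46x24⟩
  | 25, _ => ⟨1, by decide, s46x25⟩
  | 26, _ => ⟨3, by decide, s46x26⟩
  | 27, _ => ⟨1, by decide, s46x27⟩
  | 28, _ => ⟨1, by decide, s46x28⟩
  | 29, _ => ⟨1, by decide, s46x29⟩
  | 30, _ => ⟨1, by decide, s46x30⟩
  | 31, _ => ⟨3, by decide, s46x31⟩
  | 32, _ => ⟨5, by decide, s46x32⟩
  | _ + 33, h => absurd h (by omega)

theorem s47x0 : ∀ l, l < 1 → run3 10 [] 61 47 11 0 1 l = true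
  | 0, _ => c47x0x0
  | _ + 1, h => absurd h (by omega)

theorem s47x1 : ∀ l, l < 3 → run3 10 [] 61 47 11 1 3 l = true
  | 0, _ => c47x1x0
  | 1, _ => c47x1x1
  | 2, _ => c47x1x2
  | _ + 3, h => absurd h (by omega)

theorem s47x2 : ∀ l, l < 1 → run3 10 [] 61 47 11 2 1 l = true
  | 0, _ => c47x2x0
  | _ + 1, h => absurd h (by omega)

theorem s47x3 : ∀ l, l < 3 → run3 10 [] 61 47 11 3 3 l = true
  | 0, _ => c47x3x0
  | 1, _ => c47x3x1
  | 2, _ => c47x3x2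
  | _ + 3, h => absurd h (by omega)

theorem s47x4 : ∀ l, l < 1 → run3 10 [] 61 47 11 4 1 l = true
  | 0, _ => c47x4x0
  | _ + 1, h => absurd h (by omega)

theorem s47x5 : ∀ l, l < 1 → run3 10 [] 61 47 11 5 1 l = true
  | 0, _ => c47x5x0
  | _ + 1, h => absurd h (by omega)

theorem s47x6 : ∀ l, l < 1 → run3 10 [] 61 47 11 6 1 l = true
  | 0, _ => c47x6x0
  | _ + 1, h => absurd h (by omega)

theorem s47x7 : ∀ l, l < 1 → run3 10 [] 61 47 11 7 1 l = true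
  | 0, _ => c47x7x0
  | _ + 1, h => absurd h (by omega)

theorem s47x8 : ∀ l, l < 1 → run3 10 [] 61 47 11 8 1 l = true
  | 0, _ => c47x8x0
  | _ + 1, h => absurd h (by omega)

theorem s47x9 : ∀ l, l < 1 → run3 10 [] 61 47 11 9 1 l = true
  | 0, _ => c47x9x0
  | _ + 1, h => absurd h (by omega)

theorem s47x10 : ∀ l, l < 1 → run3 10 [] 61 47 11 10 1 l = true
  | 0, _ => c47x10x0
  | _ + 1, h => absurd h (by omega)

theorem r47 : ∀ j, j < 11 → ∃ n3, 0 < n3 ∧ ∀ l, l < n3 → run3 10 [] 61 47 11 j n3 l = true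
  | 0, _ => ⟨1, by decide, s47x0⟩
  | 1, _ => ⟨3, by decide, s47x1⟩
  | 2, _ => ⟨1, by decide, s47x2⟩
  | 3, _ => ⟨3, by decide, s47x3⟩
  | 4, _ => ⟨1, by decide, s47x4⟩
  | 5, _ => ⟨1, by decide, s47x5⟩
  | 6, _ => ⟨1, by decide, s47x6⟩
  | 7, _ => ⟨1, by decide, s47x7⟩
  | 8, _ => ⟨1, by decide, s47x8⟩
  | 9, _ => ⟨1, by decide, s47x9⟩
  | 10, _ => ⟨1, by decide, s47x10⟩
  | _ + 11, h => absurd h (by omega)

theorem s48x0 : ∀ l, l < 1 → run3 10 [] 61 48 7 0 1 l = true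
  | 0, _ => c48x0x0
  | _ + 1, h => absurd h (by omega)

theorem s48x1 : ∀ l, l < 1 → run3 10 [] 61 48 7 1 1 l = true
  | 0, _ => c48x1x0
  | _ + 1, h => absurd h (by omega)

theorem s48x2 : ∀ l, l < 1 → run3 10 [] 61 48 7 2 1 l = true
  | 0, _ => c48x2x0
  | _ + 1, h => absurd h (by omega)

theorem s48x3 : ∀ l, l < 1 → run3 10 [] 61 48 7 3 1 l = true
  | 0, _ => c48x3x0
  | _ + 1, h => absurd h (by omega)

theorem s48x4 : ∀ l, l < 1 → run3 10 [] 61 48 7 4 1 l = true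
  | 0, _ => c48x4x0
  | _ + 1, h => absurd h (by omega)

theorem s48x5 : ∀ l, l < 1 → run3 10 [] 61 48 7 5 1 l = true
  | 0, _ => c48x5x0
  | _ + 1, h => absurd h (by omega)

theorem s48x6 : ∀ l, l < 1 → run3 10 [] 61 48 7 6 1 l = true
  | 0, _ => c48x6x0
  | _ + 1, h => absurd h (by omega)

theorem r48 : ∀ j, j < 7 → ∃ n3, 0 < n3 ∧ ∀ l, l < n3 → run3 10 [] 61 48 7 j n3 l = true
  | 0, _ => ⟨1, by decide, s48x0⟩
  | 1, _ => ⟨1, by decide, s48x1⟩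
  | 2, _ => ⟨1, by decide, s48x2⟩
  | 3, _ => ⟨1, by decide, s48x3⟩
  | 4, _ => ⟨1, by decide, s48x4⟩
  | 5, _ => ⟨1, by decide, s48x5⟩
  | 6, _ => ⟨1, by decide, s48x6⟩
  | _ + 7, h => absurd h (by omega)

theorem s49x0 : ∀ l, l < 1 → run3 10 [] 61 49 13 0 1 l = true
  | 0, _ => c49x0x0
  | _ + 1, h => absurd h (by omega)

theorem s49x1 : ∀ l, l < 1 → run3 10 [] 61 49 13 1 1 l = true
  | 0, _ => c49x1x0
  | _ + 1, h => absurd h (by omega)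

theorem s49x2 : ∀ l, l < 3 → run3 10 [] 61 49 13 2 3 l = true
  | 0, _ => c49x2x0
  | 1, _ => c49x2x1
  | 2, _ => c49x2x2
  | _ + 3, h => absurd h (by omega)

theorem s49x3 : ∀ l, l < 1 → run3 10 [] 61 49 13 3 1 l = true
  | 0, _ => c49x3x0
  | _ + 1, h => absurd h (by omega)

theorem s49x4 : ∀ l, l < 1 → run3 10 [] 61 49 13 4 1 l = true
  | 0, _ => c49x4x0
  | _ + 1, h => absurd h (by omega)

theorem s49x5 : ∀ l, l < 1 → run3 10 [] 61 49 13 5 1 l = true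
  | 0, _ => c49x5x0
  | _ + 1, h => absurd h (by omega)

theorem s49x6 : ∀ l, l < 3 → run3 10 [] 61 49 13 6 3 l = true
  | 0, _ => c49x6x0
  | 1, _ => c49x6x1
  | 2, _ => c49x6x2
  | _ + 3, h => absurd h (by omega)

theorem s49x7 : ∀ l, l < 1 → run3 10 [] 61 49 13 7 1 l = true
  | 0, _ => c49x7x0
  | _ + 1, h => absurd h (by omega)

theorem s49x8 : ∀ l, l < 3 → run3 10 [] 61 49 13 8 3 l = true
  | 0, _ => c49x8x0
  | 1, _ => c49x8x1
  | 2, _ => c49x8x2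
  | _ + 3, h => absurd h (by omega)

theorem s49x9 : ∀ l, l < 1 → run3 10 [] 61 49 13 9 1 l = true
  | 0, _ => c49x9x0
  | _ + 1, h => absurd h (by omega)

theorem s49x10 : ∀ l, l < 1 → run3 10 [] 61 49 13 10 1 l = true
  | 0, _ => c49x10x0
  | _ + 1, h => absurd h (by omega)

theorem s49x11 : ∀ l, l < 1 → run3 10 [] 61 49 13 11 1 l = true
  | 0, _ => c49x11x0
  | _ + 1, h => absurd h (by omega)

theorem s49x12 : ∀ l, l < 3 → run3 10 [] 61 49 13 12 3 l = true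
  | 0, _ => c49x12x0
  | 1, _ => c49x12x1
  | 2, _ => c49x12x2
  | _ + 3, h => absurd h (by omega)

theorem r49 : ∀ j, j < 13 → ∃ n3, 0 < n3 ∧ ∀ l, l < n3 → run3 10 [] 61 49 13 j n3 l = true
  | 0, _ => ⟨1, by decide, s49x0⟩
  | 1, _ => ⟨1, by decide, s49x1⟩
  | 2, _ => ⟨3, by decide, s49x2⟩
  | 3, _ => ⟨1, by decide, s49x3⟩
  | 4, _ => ⟨1, by decide, s49x4⟩
  | 5, _ => ⟨1, by decide, s49x5⟩
  | 6, _ => ⟨3, by decide, s49x6⟩
  | 7, _ => ⟨1, by decide, s49x7⟩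
  | 8, _ => ⟨3, by decide, s49x8⟩
  | 9, _ => ⟨1, by decide, s49x9⟩
  | 10, _ => ⟨1, by decide, s49x10⟩
  | 11, _ => ⟨1, by decide, s49x11⟩
  | 12, _ => ⟨3, by decide, s49x12⟩
  | _ + 13, h => absurd h (by omega)

theorem s50x0 : ∀ l, l < 1 → run3 10 [] 61 50 11 0 1 l = true
  | 0, _ => c50x0x0
  | _ + 1, h => absurd h (by omega)

theorem s50x1 : ∀ l, l < 1 → run3 10 [] 61 50 11 1 1 l = true
  | 0, _ => c50x1x0
  | _ + 1, h => absurd h (by omega)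

theorem s50x2 : ∀ l, l < 3 → run3 10 [] 61 50 11 2 3 l = true
  | 0, _ => c50x2x0
  | 1, _ => c50x2x1
  | 2, _ => c50x2x2
  | _ + 3, h => absurd h (by omega)

theorem s50x3 : ∀ l, l < 1 → run3 10 [] 61 50 11 3 1 l = true
  | 0, _ => c50x3x0
  | _ + 1, h => absurd h (by omega)

theorem s50x4 : ∀ l, l < 1 → run3 10 [] 61 50 11 4 1 l = true
  | 0, _ => c50x4x0
  | _ + 1, h => absurd h (by omega)

theorem s50x5 : ∀ l, l < 1 → run3 10 [] 61 50 11 5 1 l = true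
  | 0, _ => c50x5x0
  | _ + 1, h => absurd h (by omega)

theorem s50x6 : ∀ l, l < 1 → run3 10 [] 61 50 11 6 1 l = true
  | 0, _ => c50x6x0
  | _ + 1, h => absurd h (by omega)

theorem s50x7 : ∀ l, l < 1 → run3 10 [] 61 50 11 7 1 l = true
  | 0, _ => c50x7x0
  | _ + 1, h => absurd h (by omega)

theorem s50x8 : ∀ l, l < 1 → run3 10 [] 61 50 11 8 1 l = true
  | 0, _ => c50x8x0
  | _ + 1, h => absurd h (by omega)

theorem s50x9 : ∀ l, l < 1 → run3 10 [] 61 50 11 9 1 l = true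
  | 0, _ => c50x9x0
  | _ + 1, h => absurd h (by omega)

theorem s50x10 : ∀ l, l < 1 → run3 10 [] 61 50 11 10 1 l = true
  | 0, _ => c50x10x0
  | _ + 1, h => absurd h (by omega)

theorem r50 : ∀ j, j < 11 → ∃ n3, 0 < n3 ∧ ∀ l, l < n3 → run3 10 [] 61 50 11 j n3 l = true
  | 0, _ => ⟨1, by decide, s50x0⟩
  | 1, _ => ⟨1, by decide, s50x1⟩
  | 2, _ => ⟨3, by decide, s50x2⟩
  | 3, _ => ⟨1, by decide, s50x3⟩
  | 4, _ => ⟨1, by decide, s50x4⟩
  | 5, _ => ⟨1, by decide, s50x5⟩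
  | 6, _ => ⟨1, by decide, s50x6⟩
  | 7, _ => ⟨1, by decide, s50x7⟩
  | 8, _ => ⟨1, by decide, s50x8⟩
  | 9, _ => ⟨1, by decide, s50x9⟩
  | 10, _ => ⟨1, by decide, s50x10⟩
  | _ + 11, h => absurd h (by omega)

theorem s51x0 : ∀ l, l < 1 → run3 10 [] 61 51 5 0 1 l = true
  | 0, _ => c51x0x0
  | _ + 1, h => absurd h (by omega)

theorem s51x1 : ∀ l, l < 1 → run3 10 [] 61 51 5 1 1 l = true
  | 0, _ => c51x1x0
  | _ + 1, h => absurd h (by omega)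

theorem s51x2 : ∀ l, l < 1 → run3 10 [] 61 51 5 2 1 l = true
  | 0, _ => c51x2x0
  | _ + 1, h => absurd h (by omega)

theorem s51x3 : ∀ l, l < 1 → run3 10 [] 61 51 5 3 1 l = true
  | 0, _ => c51x3x0
  | _ + 1, h => absurd h (by omega)

theorem s51x4 : ∀ l, l < 1 → run3 10 [] 61 51 5 4 1 l = true
  | 0, _ => c51x4x0
  | _ + 1, h => absurd h (by omega)

theorem r51 : ∀ j, j < 5 → ∃ n3, 0 < n3 ∧ ∀ l, l < n3 → run3 10 [] 61 51 5 j n3 l = true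
  | 0, _ => ⟨1, by decide, s51x0⟩
  | 1, _ => ⟨1, by decide, s51x1⟩
  | 2, _ => ⟨1, by decide, s51x2⟩
  | 3, _ => ⟨1, by decide, s51x3⟩
  | 4, _ => ⟨1, by decide, s51x4⟩
  | _ + 5, h => absurd h (by omega)

theorem s52x0 : ∀ l, l < 1 → run3 10 [] 61 52 7 0 1 l = true
  | 0, _ => c52x0x0
  | _ + 1, h => absurd h (by omega)

theorem s52x1 : ∀ l, l < 1 → run3 10 [] 61 52 7 1 1 l = true
  | 0, _ => c52x1x0
  | _ + 1, h => absurd h (by omega)

theorem s52x2 : ∀ l, l < 1 → run3 10 [] 61 52 7 2 1 l = true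
  | 0, _ => c52x2x0
  | _ + 1, h => absurd h (by omega)

theorem s52x3 : ∀ l, l < 1 → run3 10 [] 61 52 7 3 1 l = true
  | 0, _ => c52x3x0
  | _ + 1, h => absurd h (by omega)

theorem s52x4 : ∀ l, l < 1 → run3 10 [] 61 52 7 4 1 l = true
  | 0, _ => c52x4x0
  | _ + 1, h => absurd h (by omega)

theorem s52x5 : ∀ l, l < 1 → run3 10 [] 61 52 7 5 1 l = true
  | 0, _ => c52x5x0
  | _ + 1, h => absurd h (by omega)

theorem s52x6 : ∀ l, l < 3 → run3 10 [] 61 52 7 6 3 l = true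
  | 0, _ => c52x6x0
  | 1, _ => c52x6x1
  | 2, _ => c52x6x2
  | _ + 3, h => absurd h (by omega)

theorem r52 : ∀ j, j < 7 → ∃ n3, 0 < n3 ∧ ∀ l, l < n3 → run3 10 [] 61 52 7 j n3 l = true
  | 0, _ => ⟨1, by decide, s52x0⟩
  | 1, _ => ⟨1, by decide, s52x1⟩
  | 2, _ => ⟨1, by decide, s52x2⟩
  | 3, _ => ⟨1, by decide, s52x3⟩
  | 4, _ => ⟨1, by decide, s52x4⟩
  | 5, _ => ⟨1, by decide, s52x5⟩
  | 6, _ => ⟨3, by decide, s52x6⟩
  | _ + 7, h => absurd h (by omega)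

theorem s53x0 : ∀ l, l < 1 → run3 10 [] 61 53 7 0 1 l = true
  | 0, _ => c53x0x0
  | _ + 1, h => absurd h (by omega)

theorem s53x1 : ∀ l, l < 1 → run3 10 [] 61 53 7 1 1 l = true
  | 0, _ => c53x1x0
  | _ + 1, h => absurd h (by omega)

theorem s53x2 : ∀ l, l < 1 → run3 10 [] 61 53 7 2 1 l = true
  | 0, _ => c53x2x0
  | _ + 1, h => absurd h (by omega)

theorem s53x3 : ∀ l, l < 1 → run3 10 [] 61 53 7 3 1 l = true
  | 0, _ => c53x3x0
  | _ + 1, h => absurd h (by omega)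

theorem s53x4 : ∀ l, l < 1 → run3 10 [] 61 53 7 4 1 l = true
  | 0, _ => c53x4x0
  | _ + 1, h => absurd h (by omega)

theorem s53x5 : ∀ l, l < 1 → run3 10 [] 61 53 7 5 1 l = true
  | 0, _ => c53x5x0
  | _ + 1, h => absurd h (by omega)

theorem s53x6 : ∀ l, l < 1 → run3 10 [] 61 53 7 6 1 l = true
  | 0, _ => c53x6x0
  | _ + 1, h => absurd h (by omega)

theorem r53 : ∀ j, j < 7 → ∃ n3, 0 < n3 ∧ ∀ l, l < n3 → run3 10 [] 61 53 7 j n3 l = true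
  | 0, _ => ⟨1, by decide, s53x0⟩
  | 1, _ => ⟨1, by decide, s53x1⟩
  | 2, _ => ⟨1, by decide, s53x2⟩
  | 3, _ => ⟨1, by decide, s53x3⟩
  | 4, _ => ⟨1, by decide, s53x4⟩
  | 5, _ => ⟨1, by decide, s53x5⟩
  | 6, _ => ⟨1, by decide, s53x6⟩
  | _ + 7, h => absurd h (by omega)

theorem s54x0 : ∀ l, l < 1 → run3 10 [] 61 54 3 0 1 l = true
  | 0, _ => c54x0x0
  | _ + 1, h => absurd h (by omega)

theorem s54x1 : ∀ l, l < 1 → run3 10 [] 61 54 3 1 1 l = true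
  | 0, _ => c54x1x0
  | _ + 1, h => absurd h (by omega)

theorem s54x2 : ∀ l, l < 1 → run3 10 [] 61 54 3 2 1 l = true
  | 0, _ => c54x2x0
  | _ + 1, h => absurd h (by omega)

theorem r54 : ∀ j, j < 3 → ∃ n3, 0 < n3 ∧ ∀ l, l < n3 → run3 10 [] 61 54 3 j n3 l = true
  | 0, _ => ⟨1, by decide, s54x0⟩
  | 1, _ => ⟨1, by decide, s54x1⟩
  | 2, _ => ⟨1, by decide, s54x2⟩
  | _ + 3, h => absurd h (by omega)

theorem s55x0 : ∀ l, l < 1 → run3 10 [] 61 55 5 0 1 l = true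
  | 0, _ => c55x0x0
  | _ + 1, h => absurd h (by omega)

theorem s55x1 : ∀ l, l < 1 → run3 10 [] 61 55 5 1 1 l = true
  | 0, _ => c55x1x0
  | _ + 1, h => absurd h (by omega)

theorem s55x2 : ∀ l, l < 1 → run3 10 [] 61 55 5 2 1 l = true
  | 0, _ => c55x2x0
  | _ + 1, h => absurd h (by omega)

theorem s55x3 : ∀ l, l < 1 → run3 10 [] 61 55 5 3 1 l = true
  | 0, _ => c55x3x0
  | _ + 1, h => absurd h (by omega)

theorem s55x4 : ∀ l, l < 1 → run3 10 [] 61 55 5 4 1 l = true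
  | 0, _ => c55x4x0
  | _ + 1, h => absurd h (by omega)

theorem r55 : ∀ j, j < 5 → ∃ n3, 0 < n3 ∧ ∀ l, l < n3 → run3 10 [] 61 55 5 j n3 l = true
  | 0, _ => ⟨1, by decide, s55x0⟩
  | 1, _ => ⟨1, by decide, s55x1⟩
  | 2, _ => ⟨1, by decide, s55x2⟩
  | 3, _ => ⟨1, by decide, s55x3⟩
  | 4, _ => ⟨1, by decide, s55x4⟩
  | _ + 5, h => absurd h (by omega)

theorem s56x0 : ∀ l, l < 1 → run3 10 [] 61 56 3 0 1 l = true
  | 0, _ => c56x0x0
  | _ + 1, h => absurd h (by omega)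

theorem s56x1 : ∀ l, l < 1 → run3 10 [] 61 56 3 1 1 l = true
  | 0, _ => c56x1x0
  | _ + 1, h => absurd h (by omega)

theorem s56x2 : ∀ l, l < 1 → run3 10 [] 61 56 3 2 1 l = true
  | 0, _ => c56x2x0
  | _ + 1, h => absurd h (by omega)

theorem r56 : ∀ j, j < 3 → ∃ n3, 0 < n3 ∧ ∀ l, l < n3 → run3 10 [] 61 56 3 j n3 l = true
  | 0, _ => ⟨1, by decide, s56x0⟩
  | 1, _ => ⟨1, by decide, s56x1⟩
  | 2, _ => ⟨1, by decide, s56x2⟩
  | _ + 3, h => absurd h (by omega)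

theorem s57x0 : ∀ l, l < 1 → run3 10 [] 61 57 5 0 1 l = true
  | 0, _ => c57x0x0
  | _ + 1, h => absurd h (by omega)

theorem s57x1 : ∀ l, l < 1 → run3 10 [] 61 57 5 1 1 l = true
  | 0, _ => c57x1x0
  | _ + 1, h => absurd h (by omega)

theorem s57x2 : ∀ l, l < 1 → run3 10 [] 61 57 5 2 1 l = true
  | 0, _ => c57x2x0
  | _ + 1, h => absurd h (by omega)

theorem s57x3 : ∀ l, l < 1 → run3 10 [] 61 57 5 3 1 l = true
  | 0, _ => c57x3x0
  | _ + 1, h => absurd h (by omega)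

theorem s57x4 : ∀ l, l < 1 → run3 10 [] 61 57 5 4 1 l = true
  | 0, _ => c57x4x0
  | _ + 1, h => absurd h (by omega)

theorem r57 : ∀ j, j < 5 → ∃ n3, 0 < n3 ∧ ∀ l, l < n3 → run3 10 [] 61 57 5 j n3 l = true
  | 0, _ => ⟨1, by decide, s57x0⟩
  | 1, _ => ⟨1, by decide, s57x1⟩
  | 2, _ => ⟨1, by decide, s57x2⟩
  | 3, _ => ⟨1, by decide, s57x3⟩
  | 4, _ => ⟨1, by decide, s57x4⟩
  | _ + 5, h => absurd h (by omega)

theorem s58x0 : ∀ l, l < 3 → run3 10 [] 61 58 7 0 3 l = true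
  | 0, _ => c58x0x0
  | 1, _ => c58x0x1
  | 2, _ => c58x0x2
  | _ + 3, h => absurd h (by omega)

theorem s58x1 : ∀ l, l < 1 → run3 10 [] 61 58 7 1 1 l = true
  | 0, _ => c58x1x0
  | _ + 1, h => absurd h (by omega)

theorem s58x2 : ∀ l, l < 1 → run3 10 [] 61 58 7 2 1 l = true
  | 0, _ => c58x2x0
  | _ + 1, h => absurd h (by omega)

theorem s58x3 : ∀ l, l < 1 → run3 10 [] 61 58 7 3 1 l = true
  | 0, _ => c58x3x0
  | _ + 1, h => absurd h (by omega)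

theorem s58x4 : ∀ l, l < 1 → run3 10 [] 61 58 7 4 1 l = true
  | 0, _ => c58x4x0
  | _ + 1, h => absurd h (by omega)

theorem s58x5 : ∀ l, l < 1 → run3 10 [] 61 58 7 5 1 l = true
  | 0, _ => c58x5x0
  | _ + 1, h => absurd h (by omega)

theorem s58x6 : ∀ l, l < 1 → run3 10 [] 61 58 7 6 1 l = true
  | 0, _ => c58x6x0
  | _ + 1, h => absurd h (by omega)

theorem r58 : ∀ j, j < 7 → ∃ n3, 0 < n3 ∧ ∀ l, l < n3 → run3 10 [] 61 58 7 j n3 l = true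
  | 0, _ => ⟨3, by decide, s58x0⟩
  | 1, _ => ⟨1, by decide, s58x1⟩
  | 2, _ => ⟨1, by decide, s58x2⟩
  | 3, _ => ⟨1, by decide, s58x3⟩
  | 4, _ => ⟨1, by decide, s58x4⟩
  | 5, _ => ⟨1, by decide, s58x5⟩
  | 6, _ => ⟨1, by decide, s58x6⟩
  | _ + 7, h => absurd h (by omega)

theorem s59x0 : ∀ l, l < 1 → run3 10 [] 61 59 5 0 1 l = true
  | 0, _ => c59x0x0
  | _ + 1, h => absurd h (by omega)

theorem s59x1 : ∀ l, l < 1 → run3 10 [] 61 59 5 1 1 l = true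
  | 0, _ => c59x1x0
  | _ + 1, h => absurd h (by omega)

theorem s59x2 : ∀ l, l < 1 → run3 10 [] 61 59 5 2 1 l = true
  | 0, _ => c59x2x0
  | _ + 1, h => absurd h (by omega)

theorem s59x3 : ∀ l, l < 1 → run3 10 [] 61 59 5 3 1 l = true
  | 0, _ => c59x3x0
  | _ + 1, h => absurd h (by omega)

theorem s59x4 : ∀ l, l < 1 → run3 10 [] 61 59 5 4 1 l = true
  | 0, _ => c59x4x0
  | _ + 1, h => absurd h (by omega)

theorem r59 : ∀ j, j < 5 → ∃ n3, 0 < n3 ∧ ∀ l, l < n3 → run3 10 [] 61 59 5 j n3 l = true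
  | 0, _ => ⟨1, by decide, s59x0⟩
  | 1, _ => ⟨1, by decide, s59x1⟩
  | 2, _ => ⟨1, by decide, s59x2⟩
  | 3, _ => ⟨1, by decide, s59x3⟩
  | 4, _ => ⟨1, by decide, s59x4⟩
  | _ + 5, h => absurd h (by omega)

theorem s60x0 : ∀ l, l < 1 → run3 10 [] 61 60 3 0 1 l = true
  | 0, _ => c60x0x0
  | _ + 1, h => absurd h (by omega)

theorem s60x1 : ∀ l, l < 1 → run3 10 [] 61 60 3 1 1 l = true
  | 0, _ => c60x1x0
  | _ + 1, h => absurd h (by omega)

theorem s60x2 : ∀ l, l < 1 → run3 10 [] 61 60 3 2 1 l = true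
  | 0, _ => c60x2x0
  | _ + 1, h => absurd h (by omega)

theorem r60 : ∀ j, j < 3 → ∃ n3, 0 < n3 ∧ ∀ l, l < n3 → run3 10 [] 61 60 3 j n3 l = true
  | 0, _ => ⟨1, by decide, s60x0⟩
  | 1, _ => ⟨1, by decide, s60x1⟩
  | 2, _ => ⟨1, by decide, s60x2⟩
  | _ + 3, h => absurd h (by omega)

theorem all1 : ∀ i, i < 61 → ∃ n2, 0 < n2 ∧ ∀ j, j < n2 → ∃ n3, 0 < n3 ∧ ∀ l, l < n3 → run3 10 [] 61 i n2 j n3 l = true
  | 0, _ => ⟨3, by decide, r0⟩
  | 1, _ => ⟨1, by decide, r1⟩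
  | 2, _ => ⟨1, by decide, r2⟩
  | 3, _ => ⟨5, by decide, r3⟩
  | 4, _ => ⟨1, by decide, r4⟩
  | 5, _ => ⟨59, by decide, r5⟩
  | 6, _ => ⟨1, by decide, r6⟩
  | 7, _ => ⟨1, by decide, r7⟩
  | 8, _ => ⟨1, by decide, r8⟩
  | 9, _ => ⟨49, by decide, r9⟩
  | 10, _ => ⟨7, by decide, r10⟩
  | 11, _ => ⟨87, by decide, r11⟩
  | 12, _ => ⟨109, by decide, r12⟩
  | 13, _ => ⟨5, by decide, r13⟩
  | 14, _ => ⟨5, by decide, r14⟩
  | 15, _ => ⟨57, by decide, r15⟩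
  | 16, _ => ⟨3, by decide, r16⟩
  | 17, _ => ⟨19, by decide, r17⟩
  | 18, _ => ⟨39, by decide, r18⟩
  | 19, _ => ⟨11, by decide, r19⟩
  | 20, _ => ⟨3, by decide, r20⟩
  | 21, _ => ⟨7, by decide, r21⟩
  | 22, _ => ⟨7, by decide, r22⟩
  | 23, _ => ⟨5, by decide, r23⟩
  | 24, _ => ⟨5, by decide, r24⟩
  | 25, _ => ⟨3, by decide, r25⟩
  | 26, _ => ⟨7, by decide, r26⟩
  | 27, _ => ⟨9, by decide, r27⟩
  | 28, _ => ⟨5, by decide, r28⟩
  | 29, _ => ⟨3, by decide, r29⟩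
  | 30, _ => ⟨5, by decide, r30⟩
  | 31, _ => ⟨3, by decide, r31⟩
  | 32, _ => ⟨7, by decide, r32⟩
  | 33, _ => ⟨5, by decide, r33⟩
  | 34, _ => ⟨3, by decide, r34⟩
  | 35, _ => ⟨3, by decide, r35⟩
  | 36, _ => ⟨1, by decide, r36⟩
  | 37, _ => ⟨3, by decide, r37⟩
  | 38, _ => ⟨1, by decide, r38⟩
  | 39, _ => ⟨3, by decide, r39⟩
  | 40, _ => ⟨21, by decide, r40⟩
  | 41, _ => ⟨17, by decide, r41⟩
  | 42, _ => ⟨57, by decide, r42⟩
  | 43, _ => ⟨73, by decide, r43⟩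
  | 44, _ => ⟨7, by decide, r44⟩
  | 45, _ => ⟨7, by decide, r45⟩
  | 46, _ => ⟨33, by decide, r46⟩
  | 47, _ => ⟨11, by decide, r47⟩
  | 48, _ => ⟨7, by decide, r48⟩
  | 49, _ => ⟨13, by decide, r49⟩
  | 50, _ => ⟨11, by decide, r50⟩
  | 51, _ => ⟨5, by decide, r51⟩
  | 52, _ => ⟨7, by decide, r52⟩
  | 53, _ => ⟨7, by decide, r53⟩
  | 54, _ => ⟨3, by decide, r54⟩
  | 55, _ => ⟨5, by decide, r55⟩
  | 56, _ => ⟨3, by decide, r56⟩
  | 57, _ => ⟨5, by decide, r57⟩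
  | 58, _ => ⟨7, by decide, r58⟩
  | 59, _ => ⟨5, by decide, r59⟩
  | 60, _ => ⟨3, by decide, r60⟩
  | _ + 61, h => absurd h (by omega)

theorem all : Done 10 [] := ⟨61, by decide, all1⟩

end Cfsg.Agent.KC.R11
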